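import Groth.Agent.EtDivSeq.Open
import Groth.Agent.EtColimH.Main
import Groth.Agent.EtTorsPoint.GmTorsion
import Groth.Agent.EtTorsPoint.ConstFree
import Groth.Agent.EtPBC.GmGeneric
import Groth.Agent.EtPBC.GmH2
import Groth.Agent.S14401
import Mathlib

/-!
# Cohomology of the units on schemes with factorial etale local rings
-/

set_option autoImplicit false
set_option backward.isDefEq.respectTransparency false
set_option backward.isDefEq.respectTransparency.types false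
set_option linter.auxLemma false
set_option linter.style.haveILetI false
set_option linter.unusedSectionVars false

universe u

open CategoryTheory CategoryTheory.Limits CategoryTheory.Abelian AlgebraicGeometry Opposite TopologicalSpace
open Groth.Agent.EtPBC

noncomputable section

namespace Groth.Agent.EtDivSeq

attribute [local instance 100000] EtCoh.H._proof_1 EtMV.hext
attribute [local instance 200000] EtMV.hextAb

section Sum

variable {X : Scheme.{u}}

/-- classes in a finite coproduct come from the summands -/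
theorem mem_of_finite_coprod {S : Type u} [Fintype S] (g : S → EtCoh.Ab X) [HasCoproduct g] (n : ℕ)
    (Q : AddSubgroup (EtCoh.H X (∐ g) n))
    (h : ∀ (s : S) (e : EtCoh.H X (g s) n), (EtCoh.HF X n).map (Sigma.ι g s) e ∈ Q) (b : EtCoh.H X (∐ g) n) :
    b ∈ Q := by
  classical
  let p : ∀ s, ∐ g ⟶ g s := fun s => Sigma.desc fun t => if h : t = s then eqToHom (by rw [h]) else 0
  have hp : (∑ s, p s ≫ Sigma.ι g s) = 𝟙 (∐ g) := Sigma.hom_ext _ _ fun t => by
    rw [Preadditive.comp_sum, Finset.sum_eq_single t (fun s _ hs => by simp [p, Ne.symm hs]) (by simp),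
      Category.comp_id]
    simp [p]
  let φ : (∐ g ⟶ ∐ g) →+ EtCoh.H X (∐ g) n :=
    AddMonoidHom.mk' (fun m => Ext.comp b (Ext.mk₀ m) (add_zero n)) fun m m' => by rw [Ext.mk₀_add, Ext.comp_add]
  have hb : b = ∑ s, φ (p s ≫ Sigma.ι g s) :=
    (Ext.comp_mk₀_id b).symm.trans ((congrArg φ hp.symm).trans (map_sum φ _ _))
  rw [hb]
  refine sum_mem fun s _ => ?_
  show Ext.comp b (Ext.mk₀ (p s ≫ Sigma.ι g s)) (add_zero n) ∈ Q
  rw [← Ext.mk₀_comp_mk₀, ← Ext.comp_assoc_of_second_deg_zero]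
  exact h s _

/-- classes in a coproduct come from the summands -/
theorem mem_of_coprod [CompactSpace X] [QuasiSeparatedSpace X] {ι : Type u} (F : ι → EtCoh.Ab X) [HasCoproduct F]
    (n : ℕ) (Q : AddSubgroup (EtCoh.H X (∐ F) n))
    (h : ∀ (i : ι) (e : EtCoh.H X (F i) n), (EtCoh.HF X n).map (Sigma.ι F i) e ∈ Q) (b : EtCoh.H X (∐ F) n) :
    b ∈ Q := by
  classical
  haveI : HasColimitsOfSize.{u, u} (EtCoh.Ab X) := hasColimitsOfSizeShrink.{u, u, u + 1, u + 1} _
  haveI := EtColimH.preservesColimitsOfShape_HF_small (X := X) n (Finset (Discrete ι))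
  obtain ⟨S, b', rfl⟩ := Concrete.isColimit_exists_rep _ (isColimitOfPreserves (EtCoh.HF X n)
    (CoproductsFromFiniteFiltered.isColimitFiniteSubproductsCocone F)) b
  let m : (∐ fun x : S => F x.1.as) ⟶ ∐ F := Sigma.desc fun x => Sigma.ι F x.1.as
  show (EtCoh.HF X n).map m b' ∈ Q
  refine mem_of_finite_coprod (fun x : S => F x.1.as) n (Q.comap ((EtCoh.HF X n).map m).hom) (fun s e => ?_) b'
  have hm : (EtCoh.HF X n).map m ((EtCoh.HF X n).map (Sigma.ι (fun x : S => F x.1.as) s) e) =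
      (EtCoh.HF X n).map (Sigma.ι F s.1.as) e := by
    rw [← ConcreteCategory.comp_apply, ← Functor.map_comp,
      show Sigma.ι (fun x : S => F x.1.as) s ≫ m = Sigma.ι F s.1.as from colimit.ι_desc _ _]
  rw [AddSubgroup.mem_comap]
  exact hm ▸ h _ e

theorem isOfFinAddOrder_of_iso {G G' : EtCoh.Ab X} (e : G ≅ G') (n : ℕ)
    (h : ∀ c : EtCoh.H X G' n, IsOfFinAddOrder c) (c : EtCoh.H X G n) : IsOfFinAddOrder c := by
  have hc : (EtCoh.HF X n).map e.inv ((EtCoh.HF X n).map e.hom c) = c := by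
    rw [← ConcreteCategory.comp_apply, ← Functor.map_comp, e.hom_inv_id, CategoryTheory.Functor.map_id]
    rfl
  rw [← hc]
  exact AddMonoidHom.isOfFinAddOrder ((EtCoh.HF X n).map e.inv).hom (h _)

end Sum

section Disjoint

/-- a class over a disjoint union vanishes if it vanishes on the pieces -/
theorem eq_zero_of_disjoint {Y : Scheme.{u}} {o : Y.Etale} {ι : Type u} (Z : ι → Y.Etale) (π : ∀ v, Z v ⟶ o)
    [∀ v, Mono (π v).left]
    (hd : ∀ i j, i ≠ j → ∀ (c : (Z i).left) (d : (Z j).left), (π i).left c ≠ (π j).left d)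
    (hc : ∀ c, ∃ v, c ∈ Set.range (π v).left) :
    ∀ (n : ℕ) (G : EtCoh.Ab Y) (c : Ext ((EtMV.P Y).obj o) G (n + 1)),
      (∀ v, (Ext.mk₀ ((EtMV.P Y).map (π v))).comp c (zero_add (n + 1)) = 0) → c = 0 := by
  intro n
  induction n with
  | zero =>
    intro G c hv
    have hS := EtMV.injSeq_shortExact G
    haveI : Injective (EtMV.injSeq G).X₂ := inferInstanceAs (Injective (Injective.under G))
    obtain ⟨t, ht⟩ := Ext.covariant_sequence_exact₁ ((EtMV.P Y).obj o) hS c (Ext.eq_zero_of_injective _)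
      (n₀ := 0) rfl
    obtain ⟨τ, rfl⟩ := (Ext.mk₀_bijective _ _).2 t
    have hl : ∀ v, ∃ z, (EtMV.injSeq G).g.hom.app (op (Z v)) z
        = (EtMV.injSeq G).X₃.obj.map (π v).op (EtMV.σ τ) := fun v => by
      obtain ⟨z, hz⟩ := Ext.covariant_sequence_exact₃ ((EtMV.P Y).obj (Z v)) hS
        (Ext.mk₀ ((EtMV.P Y).map (π v) ≫ τ)) (rfl : 0 + 1 = 1) (by
          rw [← Ext.mk₀_comp_mk₀, Ext.comp_assoc (a₂₃ := 1) _ _ _ (zero_add 0) (zero_add 1) (by lia), ht]
          exact hv v)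
      obtain ⟨ξ, rfl⟩ := (Ext.mk₀_bijective _ _).2 z
      rw [Ext.mk₀_comp_mk₀] at hz
      refine ⟨EtMV.σ ξ, ((EtMV.σ_comp _ _).symm.trans (congrArg EtMV.σ ((Ext.mk₀_bijective _ _).1 hz))).trans ?_⟩
      exact EtMV.σ_map _ _
    choose z hz using hl
    obtain ⟨s, hs⟩ := Groth.Agent.EtIntegral.exists_amalg_disjoint (EtMV.injSeq G).X₂ Z π
      (fun i j hij c d hcd => hd i j hij c d hcd) hc z
    have h1 : (EtMV.injSeq G).g.hom.app (op o) s = EtMV.σ τ :=
      Groth.Agent.EtIntegral.sect_ext (EtMV.injSeq G).X₃ Z π hc _ _ fun v => by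
        rw [← NatTrans.naturality_apply, hs, hz]
    have h2 : EtMV.σ.symm s ≫ (EtMV.injSeq G).g = τ := EtMV.σ.injective (by
      rw [EtMV.σ_comp, Equiv.apply_symm_apply]; exact h1)
    rw [← ht, ← h2, ← Ext.mk₀_comp_mk₀, Ext.comp_assoc_of_second_deg_zero, hS.comp_extClass, Ext.comp_zero]
  | succ n ih =>
    intro G c hv
    have hS := EtMV.injSeq_shortExact G
    haveI : Injective (EtMV.injSeq G).X₂ := inferInstanceAs (Injective (Injective.under G))
    obtain ⟨d, hd'⟩ := Ext.covariant_sequence_exact₁ ((EtMV.P Y).obj o) hS c (Ext.eq_zero_of_injective _)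
      (n₀ := n + 1) rfl
    rw [← hd', ih (EtMV.injSeq G).X₃ d fun v => ?_, Ext.zero_comp]
    obtain ⟨e, he⟩ := Ext.covariant_sequence_exact₃ ((EtMV.P Y).obj (Z v)) hS
      ((Ext.mk₀ ((EtMV.P Y).map (π v))).comp d (zero_add (n + 1))) (rfl : n + 1 + 1 = n + 2) (by
        rw [Ext.comp_assoc (a₂₃ := n + 2) _ _ _ (zero_add (n + 1)) rfl (by lia), hd']
        exact hv v)
    rw [← he, Ext.eq_zero_of_injective e, Ext.zero_comp]

end Disjoint

section Integral

variable {X : Scheme.{u}} [IsIntegral X] [IsNoetherian X] (hfact : EtFact X)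

include hfact in
/-- **the first cohomology of divisors vanishes** -/
theorem H1_Div_eq_zero (c : EtCoh.H X (Div X) 1) : c = 0 := by
  haveI : HasColimitsOfSize.{u, u} (EtCoh.Ab X) := hasColimitsOfSizeShrink.{u, u, u + 1, u + 1} _
  obtain ⟨e⟩ := nonempty_iso_coprod hfact _ (coproductIsCoproduct (skyFun X))
  have h0 : (EtCoh.HF X 1).map e.hom c = 0 :=
    AddSubgroup.mem_bot.1 (mem_of_coprod (skyFun X) 1 ⊥ (fun x a => by
      haveI := EtTorsPoint.subsingleton_H1_push_const (k := X.residueField x.1) ℤ (X.fromSpecResidueField x.1)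
      rw [show a = 0 from Subsingleton.elim _ _]
      exact AddSubgroup.mem_bot.2 (map_zero _)) ((EtCoh.HF X 1).map e.hom c))
  have hc : (EtCoh.HF X 1).map e.inv ((EtCoh.HF X 1).map e.hom c) = c := by
    rw [← ConcreteCategory.comp_apply, ← Functor.map_comp, e.hom_inv_id, CategoryTheory.Functor.map_id]
    rfl
  rw [← hc, h0]
  exact map_zero _

include hfact in
/-- **cohomology of divisors is torsion in positive degrees** -/
theorem isOfFinAddOrder_H_Div (q : ℕ) (c : EtCoh.H X (Div X) (q + 1)) : IsOfFinAddOrder c := by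
  haveI : HasColimitsOfSize.{u, u} (EtCoh.Ab X) := hasColimitsOfSizeShrink.{u, u, u + 1, u + 1} _
  obtain ⟨e⟩ := nonempty_iso_coprod hfact _ (coproductIsCoproduct (skyFun X))
  refine isOfFinAddOrder_of_iso e (q + 1) (fun a => ?_) c
  exact mem_of_coprod (skyFun X) (q + 1) (AddCommGroup.torsion (EtCoh.H X (∐ skyFun X) (q + 1)))
    (fun x b => by
      have hb : IsOfFinAddOrder b :=
        EtTorsPoint.isOfFinAddOrder_H_push (k := X.residueField x.1) (X.fromSpecResidueField x.1) q _ b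
      show IsOfFinAddOrder (((Ext.mk₀ (Sigma.ι (skyFun X) x)).postcomp (EtCoh.const X ℤ) (add_zero (q + 1))) b)
      exact AddMonoidHom.isOfFinAddOrder _ hb) a

include hfact in
theorem shortExact_div :
    (ShortComplex.mk (gmUnit (genericPoint X)) (cokernel.π _) (cokernel.condition _)).ShortExact :=
  haveI := mono_gmUnit_generic hfact
  { exact := ShortComplex.exact_of_g_is_cokernel _ (cokernelIsCokernel _) }

include hfact in
/-- **cohomology of the units is torsion above degree one** -/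
theorem isOfFinAddOrder_H_Gm_integral (q : ℕ) (c : EtCoh.H X (EtCoh.Gm X) (q + 2)) : IsOfFinAddOrder c := by
  let Pv : Ext (EtCoh.const X ℤ) (EtCoh.Gm X) (q + 2) →+ Ext (EtCoh.const X ℤ) (KGm X) (q + 2) :=
    (Ext.mk₀ (gmUnit (genericPoint X))).postcomp _ (add_zero (q + 2))
  obtain ⟨n, hn, hn0⟩ := isOfFinAddOrder_iff_nsmul_eq_zero.1
    (EtTorsPoint.isOfFinAddOrder_H_push (k := X.functionField) (locι (genericPoint X)) (q + 1) _ (Pv c))
  obtain ⟨d, hd⟩ := Ext.covariant_sequence_exact₁ (EtCoh.const X ℤ) (shortExact_div hfact)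
    (n • c : Ext (EtCoh.const X ℤ) _ (q + 2)) ((map_nsmul Pv n c).trans hn0) (n₀ := q + 1) rfl
  obtain ⟨r, hr, hr0⟩ := isOfFinAddOrder_iff_nsmul_eq_zero.1 (isOfFinAddOrder_H_Div hfact q d)
  refine isOfFinAddOrder_iff_nsmul_eq_zero.2 ⟨r * n, Nat.mul_pos hr hn, ?_⟩
  rw [mul_nsmul']
  show r • (n • c : Ext (EtCoh.const X ℤ) _ (q + 2)) = 0
  rw [← hd]
  show r • ((shortExact_div hfact).extClass.postcomp _ rfl) d = 0
  rw [← map_nsmul, hr0, map_zero]

include hfact in
/-- **classes of degree two are determined over the generic point** -/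
theorem H2_Gm_eq_zero_integral (c : EtCoh.H X (EtCoh.Gm X) 2)
    (hc : Ext.comp c (Ext.mk₀ (gmUnit (genericPoint X))) (add_zero 2) = 0) : c = 0 := by
  obtain ⟨d, hd⟩ := Ext.covariant_sequence_exact₁ (EtCoh.const X ℤ) (shortExact_div hfact) c hc (n₀ := 1) rfl
  rw [← hd, show d = 0 from H1_Div_eq_zero hfact d, Ext.zero_comp]

end Integral

section Global

variable {X : Scheme.{u}}

theorem etFact_comp {U : Scheme.{u}} (j : U ⟶ X) [Etale j] (h : EtFact X) : EtFact U := fun W v => by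
  haveI : Etale W.hom := W.prop
  exact h (Scheme.Etale.mk (W.hom ≫ j)) v

theorem exists_components [IsNoetherian X] (hfact : EtFact X) :
    ∃ (ι : Type u) (_ : Finite ι) (C : ι → X.Opens), (∀ i, IsIntegral (C i : Scheme.{u})) ∧
      (∀ i j, i ≠ j → ∀ x, x ∈ C i → x ∉ C j) ∧ ∀ x, ∃ i, x ∈ C i := by
  have hdom : ∀ x : X, IsDomain (X.presheaf.stalk x) := fun x => (hfact (EtCoh.top X) x).1
  obtain ⟨hopen, huniq⟩ := Groth.Agent.S14401.result X hdom
  haveI : IsReduced X := by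
    haveI : ∀ x : X, _root_.IsReduced (X.presheaf.stalk x) := fun x => by haveI := hdom x; infer_instance
    exact isReduced_of_isReduced_stalk X
  refine ⟨↥(irreducibleComponents (X : Type u)),
    (NoetherianSpace.finite_irreducibleComponents (α := X)).to_subtype, fun Z => ⟨Z.1, hopen Z.1 Z.2⟩,
    fun Z => ?_, fun Z Z' hne x hx hx' => ?_, fun x => ?_⟩
  · let U : X.Opens := ⟨Z.1, hopen Z.1 Z.2⟩
    haveI : IrreducibleSpace (U : Scheme.{u}) := Subtype.irreducibleSpace Z.2.1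
    exact isIntegral_of_irreducibleSpace_of_isReduced (U : Scheme.{u})
  · obtain ⟨W, -, hW⟩ := huniq x
    exact hne (Subtype.ext ((hW Z.1 ⟨Z.2, hx⟩).trans (hW Z'.1 ⟨Z'.2, hx'⟩).symm))
  · obtain ⟨W, ⟨hW, hx⟩, -⟩ := huniq x
    exact ⟨⟨W, hW⟩, hx⟩

/-- the restriction of a class to an open -/
def rs (U : X.Opens) (G : EtCoh.Ab X) (n : ℕ) : EtCoh.H X G n →+ Ext ((EtMV.P X).obj (EtMV.oo U)) G n :=
  (AddMonoidHom.mk' (fun y : Ext ((EtMV.P X).obj (EtCoh.top X)) G n =>
    (Ext.mk₀ ((EtMV.P X).map (EtMV.toTop (EtMV.oo U)))).comp y (zero_add n))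
      fun _ _ => Ext.comp_add _ _ _ _).comp (EtMV.eX X G n).symm.toAddMonoidHom

theorem rs_comp (U : X.Opens) {G G' : EtCoh.Ab X} (g : G ⟶ G') (n : ℕ) (c : EtCoh.H X G n) :
    rs U G' n (Ext.comp c (Ext.mk₀ g) (add_zero n)) = (rs U G n c).comp (Ext.mk₀ g) (add_zero n) := by
  show (Ext.mk₀ _).comp ((Ext.mk₀ _).comp (Ext.comp c (Ext.mk₀ g) (add_zero n)) (zero_add n)) (zero_add n) =
    ((Ext.mk₀ _).comp ((Ext.mk₀ _).comp c (zero_add n)) (zero_add n)).comp (Ext.mk₀ g) (add_zero n)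
  rw [Ext.comp_assoc_of_third_deg_zero, Ext.comp_assoc_of_third_deg_zero]

theorem eq_zero_of_rs {ι : Type u} (C : ι → X.Opens) (hd : ∀ i j, i ≠ j → ∀ x, x ∈ C i → x ∉ C j)
    (hc : ∀ x, ∃ i, x ∈ C i) (G : EtCoh.Ab X) (n : ℕ) (c : EtCoh.H X G (n + 1))
    (h : ∀ i, rs (C i) G (n + 1) c = 0) : c = 0 := by
  haveI : ∀ i, Mono (EtMV.toTop (EtMV.oo (C i))).left := fun i => inferInstanceAs (Mono (C i).ι)
  have h0 : (EtMV.eX X G (n + 1)).symm c = 0 :=
    eq_zero_of_disjoint (fun i => EtMV.oo (C i)) (fun i => EtMV.toTop (EtMV.oo (C i)))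
      (fun i j hij a b hab => hd i j hij ((C i).ι a) a.2 (Set.mem_of_eq_of_mem (s := (C j : Set X)) hab b.2))
      (fun x => (hc x).imp fun i hi => ⟨⟨x, hi⟩, rfl⟩) n G _ h
  exact (EtMV.eX X G (n + 1)).symm.injective (h0.trans (map_zero _).symm)

theorem isNoetherian_open [IsNoetherian X] (U : X.Opens) : IsNoetherian (U : Scheme.{u}) :=
  haveI : CompactSpace (U : Scheme.{u}) := isCompact_iff_compactSpace.1 (NoetherianSpace.isCompact (U : Set X))
  { }

variable [IsNoetherian X] (hfact : EtFact X)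

include hfact in
/-- **torsion above degree one** -/
theorem isOfFinAddOrder_H_Gm_noetherian (q : ℕ) (c : EtCoh.H X (EtCoh.Gm X) (q + 2)) : IsOfFinAddOrder c := by
  classical
  obtain ⟨ι, _, C, hC, hd, hcov⟩ := exists_components hfact
  haveI := Fintype.ofFinite ι
  have ht : ∀ i, IsOfFinAddOrder (rs (C i) (EtCoh.Gm X) (q + 2) c) := fun i => by
    haveI := hC i
    haveI := isNoetherian_open (C i)
    haveI := Groth.Agent.EtPullExact.pull_preservesFiniteLimits (C i).ι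
    refine EtTorsPoint.isOfFinAddOrder_of_addEquiv (EtMV.Φ (C i) (EtCoh.Gm X) (q + 2)) (fun b => ?_) _
    exact isOfFinAddOrder_of_iso (gmPullIso (C i).ι) (q + 2)
      (isOfFinAddOrder_H_Gm_integral (etFact_comp (C i).ι hfact) q) b
  choose m hm hm0 using fun i => isOfFinAddOrder_iff_nsmul_eq_zero.1 (ht i)
  refine isOfFinAddOrder_iff_nsmul_eq_zero.2 ⟨∏ i, m i, Finset.prod_pos fun i _ => hm i, ?_⟩
  refine eq_zero_of_rs C hd hcov _ (q + 1) _ fun i => ?_
  obtain ⟨d, hd'⟩ := Finset.dvd_prod_of_mem m (Finset.mem_univ i)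
  rw [map_nsmul, hd', mul_comm, mul_nsmul', hm0 i, smul_zero]

include hfact in
/-- **restriction to the maximal points is injective in degree two** -/
theorem H2_Gm_eq_zero_of_maxPts [∀ x : X, PreservesFiniteLimits (EtCoh.pull (locι x))]
    (c : EtCoh.H X (EtCoh.Gm X) 2) (hc : ∀ x : X, IsMaxPt x → EtLim.HGmPull (locι x) 2 c = 0) : c = 0 := by
  obtain ⟨ι, _, C, hC, hd, hcov⟩ := exists_components hfact
  refine eq_zero_of_rs C hd hcov _ 1 _ fun i => ?_
  haveI := hC i
  haveI := isNoetherian_open (C i)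
  haveI := Groth.Agent.EtPullExact.pull_preservesFiniteLimits (C i).ι
  let z : (C i : Scheme.{u}) := genericPoint (C i : Scheme.{u})
  have hx : IsMaxPt ((C i).ι z) := fun y hy =>
    congrArg Subtype.val (isMaxPt_genericPoint (X := (C i : Scheme.{u})) ⟨y, hy.mem_open (C i).2 z.2⟩
      ((C i).ι.isOpenEmbedding.isInducing.specializes_iff.1 hy))
  have hu : Ext.comp c (Ext.mk₀ (gmUnit ((C i).ι z))) (add_zero 2) = 0 := by
    refine H2_push_Gm_eq_zero hx _ ?_
    rw [gmUnit_eq_GmPush]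
    exact hc _ hx
  obtain ⟨a, b, hab⟩ := exists_pull_gmUnit_iso (C i).ι z
  have h1 : (rs (C i) (EtCoh.Gm X) 2 c).comp (Ext.mk₀ (gmUnit ((C i).ι z))) (add_zero 2) = 0 := by
    rw [← rs_comp, hu, map_zero]
  let w : EtCoh.H (C i : Scheme.{u}) ((EtCoh.pull (C i).ι).obj (EtCoh.Gm X)) 2 :=
    EtMV.Φ (C i) (EtCoh.Gm X) 2 (rs (C i) (EtCoh.Gm X) 2 c)
  have h2 : Ext.comp w (Ext.mk₀ ((EtCoh.pull (C i).ι).map (gmUnit ((C i).ι z)))) (add_zero 2) = 0 := by
    have h := EtMV.T_comp_mk₀ (EtCoh.pull (C i).ι) (EtMV.cc (C i).ι (EtMV.δoo (C i)))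
      (rs (C i) (EtCoh.Gm X) 2 c) (gmUnit ((C i).ι z))
    rw [h1, map_zero] at h
    exact h.symm
  have h3 : Ext.comp (Ext.comp w (Ext.mk₀ a.hom) (add_zero 2)) (Ext.mk₀ (gmUnit z)) (add_zero 2) = 0 := by
    rw [Ext.comp_assoc_of_second_deg_zero, Ext.mk₀_comp_mk₀, ← hab, ← Ext.mk₀_comp_mk₀,
      ← Ext.comp_assoc_of_second_deg_zero, h2, Ext.zero_comp]
  have h4 := H2_Gm_eq_zero_integral (etFact_comp (C i).ι hfact) _ h3
  have h5 : w = 0 := by
    rw [← Ext.comp_mk₀_id w, ← a.hom_inv_id, ← Ext.mk₀_comp_mk₀, ← Ext.comp_assoc_of_second_deg_zero]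
    exact (congrArg (fun t => Ext.comp t (Ext.mk₀ a.inv) (add_zero 2)) h4).trans (by rw [Ext.zero_comp])
  exact (EtMV.Φ (C i) (EtCoh.Gm X) 2).injective (h5.trans (map_zero _).symm)

end Global

end Groth.Agent.EtDivSeq
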