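import Groth.Agent.EtPBC.GmLoc
import Groth.Agent.EtPBC.StalkZero
import Groth.Agent.EtPBC.Skyscraper
import Groth.Agent.CDivNormal.Basic
import Groth.Agent.CDivNormal.Primes
import Groth.Agent.SectionExt.Basic
import Mathlib

/-!
# Rational functions of integral etale schemes as sections of the direct image of the units
-/

set_option autoImplicit false
set_option backward.isDefEq.respectTransparency false
set_option backward.isDefEq.respectTransparency.types false
set_option linter.auxLemma false
set_option linter.style.haveILetI false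
set_option linter.unusedSectionVars false

universe u

open CategoryTheory CategoryTheory.Limits CategoryTheory.Abelian AlgebraicGeometry Opposite TopologicalSpace
open Groth.Agent.EtFLC (res res_res res_id)
open Groth.Agent.EtPBC

noncomputable section

namespace Groth.Agent.EtDivSeq

attribute [local instance 100000] EtCoh.H._proof_1 EtMV.hext
attribute [local instance 200000] EtMV.hextAb

/-- all etale local rings are factorial domains -/
def EtFact (X : Scheme.{u}) : Prop :=
  ∀ (U : X.Etale) (v : U.left), IsDomain (U.left.presheaf.stalk v) ∧ UniqueFactorizationMonoid (U.left.presheaf.stalk v)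

variable {X : Scheme.{u}}

section Generic

variable [IsIntegral X]

theorem isMaxPt_genericPoint : IsMaxPt (genericPoint X) := fun y hy =>
  (hy.antisymm ((genericPoint_spec X).specializes (Set.mem_univ y))).eq

theorem hom_genericPoint (W : X.Etale) [IsIntegral W.left] : W.hom (genericPoint W.left) = genericPoint X := by
  haveI : Etale W.hom := W.prop
  obtain ⟨y, hy⟩ : genericPoint X ∈ Set.range W.hom := by
    refine ((genericPoint_spec X).mem_open_set_iff W.hom.isOpenMap.isOpen_range).2 ?_
    rw [Set.univ_inter]
    exact ⟨_, genericPoint W.left, rfl⟩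
  exact (isMaxPt_genericPoint (X := X)) _ (hy ▸ ((genericPoint_spec W.left).specializes (Set.mem_univ y)).map W.hom.continuous)

theorem eq_genericPoint_of_over (W : X.Etale) [IsIntegral W.left] {w : W.left}
    (hw : W.hom w = genericPoint X) : w = genericPoint W.left :=
  (etale_eq_of_specializes ((genericPoint_spec W.left).specializes (Set.mem_univ w))
    ((hom_genericPoint W).trans hw.symm)).symm

/-- the units of the function field sheaf -/
abbrev KGm (X : Scheme.{u}) [IsIntegral X] : EtCoh.Ab X :=
  (EtCoh.push (locι (genericPoint X))).obj (EtCoh.Gm (locScheme (genericPoint X)))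

/-- its quotient by the units -/
abbrev Div (X : Scheme.{u}) [IsIntegral X] : EtCoh.Ab X := cokernel (gmUnit (genericPoint X))

/-- the function of a section over the generic point -/
def kval {W : X.Etale} (t : EtCoh.sect (KGm X) W) : Γ(pullback W.hom (locι (genericPoint X)), ⊤) :=
  gmVal (X := locScheme (genericPoint X)) (W := (EtCoh.bc (locι (genericPoint X))).obj W) t

theorem exists_kval {W : X.Etale} {τ : Γ(pullback W.hom (locι (genericPoint X)), ⊤)} (hτ : IsUnit τ) :
    ∃ t : EtCoh.sect (KGm X) W, kval t = τ := by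
  unfold kval gmVal
  exact ⟨ULift.up.{u + 1} (Additive.ofMul hτ.unit), hτ.unit_spec⟩

/-- the class of a section -/
def cls {W : X.Etale} (t : EtCoh.sect (KGm X) W) : EtCoh.sect (Div X) W :=
  (cokernel.π (gmUnit (genericPoint X))).hom.app (op W) t

theorem cls_add {W : X.Etale} (t t' : EtCoh.sect (KGm X) W) : cls (t + t') = cls t + cls t' := map_add _ _ _

theorem cls_zsmul {W : X.Etale} (n : ℤ) (t : EtCoh.sect (KGm X) W) : cls (n • t) = n • cls t := map_zsmul _ _ _

theorem res_cls {W W' : X.Etale} (g : W' ⟶ W) (t : EtCoh.sect (KGm X) W) :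
    res (Div X) g (cls t) = cls (res (KGm X) g t) := (EtFLC.app_res _ g t).symm

/-- the projection from the generic fibre -/
abbrev fstK (W : X.Etale) : pullback W.hom (locι (genericPoint X)) ⟶ W.left :=
  pullback.fst W.hom (locι (genericPoint X))

theorem spec_cancel {Y : Scheme.{u}} {x y : Y} (h : y ⤳ x) (h' : x ⤳ y) (a : Y.presheaf.stalk x) :
    Y.presheaf.stalkSpecializes h' (Y.presheaf.stalkSpecializes h a) = a := by
  show (Y.presheaf.stalkSpecializes h').hom ((Y.presheaf.stalkSpecializes h).hom a) = a
  rw [← CommRingCat.comp_apply, TopCat.Presheaf.stalkSpecializes_comp]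
  exact ConcreteCategory.congr_hom (Y.presheaf.stalkSpecializes_refl x) a

/-- germs of a function are given by a rational function -/
def Rel {T V : Scheme.{u}} [IsIntegral V] (φ : T ⟶ V) (τ : Γ(T, ⊤)) (f : V.functionField) : Prop :=
  ∀ (z : T) (h : φ z ⤳ genericPoint V),
    T.presheaf.germ ⊤ z trivial τ = φ.stalkMap z (V.presheaf.stalkSpecializes h f)

/-- the rational function of a section -/
def Rat {W : X.Etale} [IsIntegral W.left] (t : EtCoh.sect (KGm X) W) (f : CDiv.KUnits W.left) : Prop :=
  Rel (fstK W) (kval t) (f : W.left.functionField)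

variable {W : X.Etale} [IsIntegral W.left]

theorem fst_eq (z : ↑(pullback W.hom (locι (genericPoint X)))) :
    fstK W z = genericPoint W.left :=
  eq_genericPoint_of_over W (bc_fst_over isMaxPt_genericPoint W z)

theorem subsingleton_pb (W : X.Etale) [IsIntegral W.left] :
    Subsingleton ↑(pullback W.hom (locι (genericPoint X))) :=
  subsingleton_bc isMaxPt_genericPoint W (genericPoint W.left) fun _ h => eq_genericPoint_of_over W h

theorem nonempty_pb (W : X.Etale) [IsIntegral W.left] :
    Nonempty ↑(pullback W.hom (locι (genericPoint X))) := by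
  obtain ⟨z, -, -⟩ := Scheme.Pullback.exists_preimage_pullback (f := W.hom) (g := locι (genericPoint X))
    (genericPoint W.left) (IsLocalRing.closedPoint (X.presheaf.stalk (genericPoint X)))
    ((hom_genericPoint W).trans (Scheme.fromSpecStalk_closedPoint (x := genericPoint X)).symm)
  exact ⟨z⟩

theorem rat_exists (t : EtCoh.sect (KGm X) W) : ∃ f, Rat t f := by
  obtain ⟨z⟩ := nonempty_pb W
  haveI := subsingleton_pb W
  let p := fstK W
  have h : p z ⤳ genericPoint W.left := (fst_eq z).symm ▸ specializes_rfl
  have h' : genericPoint W.left ⤳ p z := (fst_eq z).symm ▸ specializes_rfl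
  obtain ⟨α, hα⟩ := (bijective_stalkMap_fst W z).2
    ((pullback W.hom (locι (genericPoint X))).presheaf.germ ⊤ z trivial (kval t))
  let f : W.left.functionField := W.left.presheaf.stalkSpecializes h' α
  have e : W.left.presheaf.stalkSpecializes h f = α := spec_cancel h' h α
  have hf : f ≠ 0 := fun h0 => by
    have hu : IsUnit ((pullback W.hom (locι (genericPoint X))).presheaf.germ ⊤ z trivial (kval t)) :=
      (isUnit_gmVal (X := locScheme (genericPoint X)) (W := (EtCoh.bc (locι (genericPoint X))).obj W) t).map
        ((pullback W.hom (locι (genericPoint X))).presheaf.germ ⊤ z trivial).hom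
    rw [← hα, ← e, h0, map_zero, map_zero] at hu
    haveI : Nontrivial ↑((pullback W.hom (locι (genericPoint X))).presheaf.stalk z) := inferInstance
    exact not_isUnit_zero hu
  refine ⟨Units.mk0 f hf, fun z' h1 => ?_⟩
  obtain rfl : z = z' := Subsingleton.elim _ _
  exact (hα.symm.trans (congrArg _ e.symm))

theorem rat_surj (f : CDiv.KUnits W.left) : ∃ t, Rat t f := by
  obtain ⟨z⟩ := nonempty_pb W
  haveI := subsingleton_pb W
  let o := pullback W.hom (locι (genericPoint X))
  let p : o ⟶ W.left := fstK W
  have h : p z ⤳ genericPoint W.left := (fst_eq z).symm ▸ specializes_rfl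
  let β := p.stalkMap z (W.left.presheaf.stalkSpecializes h (f : W.left.functionField))
  have hβ : IsUnit β := (f.isUnit.map (W.left.presheaf.stalkSpecializes h).hom).map (p.stalkMap z).hom
  obtain ⟨O, hzO, b, hb⟩ := TopCat.Presheaf.exists_germ_eq o.presheaf (x := z) β
  have hle : (⊤ : o.Opens) ≤ O := fun z' _ => by
    obtain rfl : z = z' := @Subsingleton.elim _ (subsingleton_pb W) _ _
    exact hzO
  let τ : Γ(o, ⊤) := o.presheaf.map (homOfLE hle).op b
  have hg : o.presheaf.germ ⊤ z trivial τ = β :=
    (TopCat.Presheaf.germ_res_apply o.presheaf (homOfLE hle) z trivial b).trans hb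
  have hτ : IsUnit τ := RingedSpace.isUnit_of_isUnit_germ o.toLocallyRingedSpace.toRingedSpace ⊤ τ fun z' hz' => by
    obtain rfl : z = z' := @Subsingleton.elim _ (subsingleton_pb W) _ _
    exact hg.symm ▸ hβ
  obtain ⟨t, ht⟩ := exists_kval hτ
  refine ⟨t, fun z' h1 => ?_⟩
  obtain rfl : z = z' := @Subsingleton.elim _ (subsingleton_pb W) _ _
  show o.presheaf.germ ⊤ z trivial (kval t) = _
  rw [ht]
  exact hg

theorem rat_unique {t : EtCoh.sect (KGm X) W} {f g : CDiv.KUnits W.left} (h1 : Rat t f) (h2 : Rat t g) : f = g := by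
  obtain ⟨z⟩ := nonempty_pb W
  let p := fstK W
  have h : p z ⤳ genericPoint W.left := (fst_eq z).symm ▸ specializes_rfl
  have h' : genericPoint W.left ⤳ p z := (fst_eq z).symm ▸ specializes_rfl
  have e := (bijective_stalkMap_fst W z).1 ((h1 z h).symm.trans (h2 z h))
  have e' := congrArg (W.left.presheaf.stalkSpecializes h') e
  rw [spec_cancel h h', spec_cancel h h'] at e'
  exact Units.ext e'

theorem rat_add {t t' : EtCoh.sect (KGm X) W} {f g : CDiv.KUnits W.left} (h1 : Rat t f) (h2 : Rat t' g) :
    Rat (t + t') (f * g) := fun z h => by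
  show (pullback W.hom (locι (genericPoint X))).presheaf.germ ⊤ z trivial (kval t * kval t') = _
  rw [map_mul, h1 z h, h2 z h, ← map_mul, ← map_mul]
  rfl

theorem rat_zero : Rat (0 : EtCoh.sect (KGm X) W) 1 := fun z h => by
  show (pullback W.hom (locι (genericPoint X))).presheaf.germ ⊤ z trivial 1 = _
  rw [map_one, Units.val_one, map_one, map_one]

theorem rat_neg {t : EtCoh.sect (KGm X) W} {f : CDiv.KUnits W.left} (h : Rat t f) : Rat (-t) f⁻¹ := by
  obtain ⟨g, hg⟩ := rat_exists (-t)
  have e := rat_unique (rat_add h hg) ((add_neg_cancel t).symm ▸ rat_zero)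
  rwa [eq_inv_of_mul_eq_one_right e] at hg

theorem rat_zsmul {t : EtCoh.sect (KGm X) W} {f : CDiv.KUnits W.left} (h : Rat t f) (n : ℤ) : Rat (n • t) (f ^ n) := by
  induction n using Int.induction_on with
  | zero => simpa using rat_zero
  | succ n ih => rw [add_smul, one_smul, zpow_add, zpow_one]; exact rat_add ih h
  | pred n ih => rw [sub_smul, one_smul, zpow_sub, zpow_one, sub_eq_add_neg]; exact rat_add ih (rat_neg h)

/-- sections given by regular functions -/
theorem rat_of_regular {t : EtCoh.sect (KGm X) W} {f : CDiv.KUnits W.left} (b : Γ(W.left, ⊤))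
    (ht : kval t = (fstK W).appTop b)
    (hf : (f : W.left.functionField) = W.left.presheaf.germ ⊤ (genericPoint W.left) trivial b) : Rat t f :=
  fun z h => by
    rw [hf, ht]
    refine (Scheme.Hom.germ_stalkMap_apply (fstK W) ⊤ z trivial b).symm.trans ?_
    exact congrArg _ (TopCat.Presheaf.germ_stalkSpecializes_apply W.left.presheaf (U := ⊤) (hy := trivial) h b).symm

/-- an open as an etale scheme -/
def sub (W : X.Etale) (B : W.left.Opens) : X.Etale :=
  haveI : Etale W.hom := W.prop
  MorphismProperty.Over.mk ⊤ (B.ι ≫ W.hom) (inferInstance : Etale (B.ι ≫ W.hom))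

/-- its inclusion -/
def subι (W : X.Etale) (B : W.left.Opens) : sub W B ⟶ W := MorphismProperty.Over.homMk B.ι rfl

/-- sections which are units near all points of an open are given by a unit -/
theorem res_eq_gmUnit_iff (t : EtCoh.sect (KGm X) W) {f : CDiv.KUnits W.left} (hf : Rat t f) (B : W.left.Opens)
    [Nonempty B] (c : Γ(W.left, B)) (s : EtCoh.sect (EtCoh.Gm X) (sub W B)) (hs : gmVal s = B.topIso.inv c) :
    (gmUnit (genericPoint X)).hom.app (op (sub W B)) s = res (KGm X) (subι W B) t ↔
      W.left.germToFunctionField B c = (f : W.left.functionField) := by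
  let η := genericPoint X
  let pB : pullback (sub W B).hom (locι η) ⟶ (B : Scheme.{u}) := pullback.fst (sub W B).hom (locι η)
  let p : pullback W.hom (locι η) ⟶ W.left := fstK W
  let q : pullback (sub W B).hom (locι η) ⟶ pullback W.hom (locι η) := ((EtCoh.bc (locι η)).map (subι W B)).left
  have hq : q ≫ p = pB ≫ B.ι := (EtCoh.isPullback_bc_map (locι η) (subι W B)).w
  haveI : IsIntegral (sub W B).left := by
    haveI : Nonempty (B : Scheme.{u}) := inferInstance
    haveI : Nonempty (sub W B).left := inferInstanceAs (Nonempty (B : Scheme.{u}))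
    exact isIntegral_of_isOpenImmersion B.ι
  obtain ⟨z⟩ := nonempty_pb (sub W B)
  have hz : (pB ≫ B.ι) z ⤳ genericPoint W.left := by
    rw [← hq]
    exact (fst_eq (W := W) (q z)).symm ▸ specializes_rfl
  have hB : genericPoint W.left ∈ B := by
    have h0 : (pB ≫ B.ι) z = genericPoint W.left := by rw [← hq]; exact fst_eq (W := W) (q z)
    exact h0 ▸ (pB z).2
  have key1 : ∀ (z : ↥(pullback (sub W B).hom (locι η))) (h : (pB ≫ B.ι) z ⤳ genericPoint W.left),
      (pullback (sub W B).hom (locι η)).presheaf.germ ⊤ z trivial (pB.appTop (B.topIso.inv c)) =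
        (pB ≫ B.ι).stalkMap z (W.left.presheaf.stalkSpecializes h (W.left.germToFunctionField B c)) := by
    intro z h
    have hle : (⊤ : (pullback (sub W B).hom (locι η)).Opens) ≤ (pB ≫ B.ι) ⁻¹ᵁ B := fun a _ => (pB a).2
    have e1 : (pB ≫ B.ι).appLE B ⊤ hle c = pB.appTop (B.topIso.inv c) := by
      have h0 := appTop_eq_of_restrict (pB ≫ B.ι) B (𝟙 _) pB (Category.id_comp _)
        ((pB ≫ B.ι).appLE B ⊤ hle c) c ?_
      · rwa [Scheme.Hom.id_appTop, CommRingCat.id_apply] at h0
      · rw [← ConcreteCategory.comp_apply, Scheme.Hom.appLE_map, Scheme.Hom.app_eq_appLE]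
    rw [← e1]
    refine (TopCat.Presheaf.germ_res_apply _ (homOfLE hle) z trivial ((pB ≫ B.ι).app B c)).trans ?_
    refine (Scheme.Hom.germ_stalkMap_apply (pB ≫ B.ι) B z (pB z).2 c).symm.trans (congrArg _ ?_)
    exact (TopCat.Presheaf.germ_stalkSpecializes_apply W.left.presheaf hB h c).symm
  have key2 : ∀ (z : ↥(pullback (sub W B).hom (locι η))) (h : (q ≫ p) z ⤳ genericPoint W.left),
      (pullback (sub W B).hom (locι η)).presheaf.germ ⊤ z trivial (q.appTop (kval t)) =
        (q ≫ p).stalkMap z (W.left.presheaf.stalkSpecializes h (f : W.left.functionField)) := by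
    intro z h
    rw [Scheme.Hom.stalkMap_comp, CommRingCat.comp_apply]
    refine (Scheme.Hom.germ_stalkMap_apply q ⊤ z trivial (kval t)).symm.trans (congrArg _ ?_)
    exact hf (q z) h
  rw [hq] at key2
  have hval : ∀ (t' : EtCoh.sect (KGm X) (sub W B)), (gmUnit η).hom.app (op (sub W B)) s = t' ↔
      pB.appTop (B.topIso.inv c) = kval t' := fun t' => by
    rw [← hs]
    exact ⟨fun e => e ▸ rfl, fun e => gmVal_injective
      (X := locScheme η) (W := (EtCoh.bc (locι η)).obj (sub W B)) e⟩
  rw [hval, show kval (res (KGm X) (subι W B) t) = q.appTop (kval t) from rfl]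
  constructor
  · intro e
    have h1 := (key1 z hz).symm.trans ((congrArg _ e).trans (key2 z hz))
    have h2 : Function.Injective ((pB ≫ B.ι).stalkMap z).hom := by
      rw [Scheme.Hom.stalkMap_comp]
      exact (bijective_stalkMap_fst (sub W B) z).1.comp
        (ConcreteCategory.bijective_of_isIso (B.ι.stalkMap (pB z))).1
    have h3 : genericPoint W.left ⤳ (pB ≫ B.ι) z := (genericPoint_spec W.left).specializes (Set.mem_univ _)
    have e' := congrArg (W.left.presheaf.stalkSpecializes h3) (h2 h1)
    rw [spec_cancel hz h3, spec_cancel hz h3] at e'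
    exact e'
  · intro e
    refine TopCat.Presheaf.section_ext (pullback (sub W B).hom (locι η)).sheaf ⊤ _ _ fun z' _ => ?_
    have hz' : (pB ≫ B.ι) z' ⤳ genericPoint W.left := by
      rw [← hq]
      exact (fst_eq (W := W) (q z')).symm ▸ specializes_rfl
    exact (key1 z' hz').trans ((congrArg (fun r => ((pB ≫ B.ι).stalkMap z')
      (W.left.presheaf.stalkSpecializes hz' r)) e).trans (key2 z' hz').symm)

end Generic

end Groth.Agent.EtDivSeq
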