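import Groth.Agent.EtDivSeq.Zero
import Groth.Agent.AffDiv.Point
import Groth.Agent.EtPushStalk.Unit
import Groth.Agent.EtMV.ConstUnit
import Groth.Agent.EtMV.Base
import Mathlib

/-!
# The multiplicity at a point of codimension one
-/

set_option autoImplicit false
set_option backward.isDefEq.respectTransparency false
set_option backward.isDefEq.respectTransparency.types false
set_option linter.auxLemma false
set_option linter.style.haveILetI false
set_option linter.unusedSectionVars false

universe u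

open CategoryTheory CategoryTheory.Limits CategoryTheory.Abelian AlgebraicGeometry Opposite TopologicalSpace
open Groth.Agent.EtFLC (res res_res res_id)
open Groth.Agent.EtPBC

noncomputable section

namespace Groth.Agent.EtDivSeq

attribute [local instance 100000] EtCoh.H._proof_1 EtMV.hext
attribute [local instance 200000] EtMV.hextAb

/-- sections of a pullback locally come from sections downstairs -/
theorem exists_local_pull {Y X : Scheme.{u}} (f : Y ⟶ X) (F : EtCoh.Ab X) {o : Y.Etale}
    (t : EtCoh.sect ((EtCoh.pull f).obj F) o) (w : o.left) :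
    ∃ (V : X.Etale) (s : EtCoh.sect F V) (W : Y.Etale) (g : W ⟶ o) (h : W ⟶ (EtCoh.bc f).obj V) (w' : W.left),
      g.left w' = w ∧ res ((EtCoh.pull f).obj F) g t =
        res ((EtCoh.pull f).obj F) h (((EtCoh.pullPushAdj f).unit.app F).hom.app (op V) s) := by
  classical
  obtain ⟨Ω, _, _, η, -, hη⟩ := EtStalk.covers_all (X := o.left) w
  let ξ : Spec (CommRingCat.of Ω) ⟶ Y := η ≫ o.hom
  let vW : Over.mk ξ ⟶ (Scheme.Etale.forget Y).obj o := Over.homMk η rfl
  let P := (EtCoh.pull f).obj F
  obtain ⟨z', hz'⟩ := ((ConcreteCategory.isIso_iff_bijective ((EtStalk.stalkPullIso f ξ).hom.app F)).1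
    inferInstance).2 ((Scheme.pointSmallEtale ξ).toPresheafFiber o vW P.obj t)
  obtain ⟨V, v, s, rfl⟩ := (Scheme.pointSmallEtale (ξ ≫ f)).toPresheafFiber_jointly_surjective (P := F.obj) z'
  have hgerm : (EtStalk.stalkPullIso f ξ).hom.app F
      ((Scheme.pointSmallEtale (ξ ≫ f)).toPresheafFiber V v F.obj s) =
      (Scheme.pointSmallEtale ξ).toPresheafFiber ((EtCoh.bc f).obj V) (EtPushStalk.up f ξ v) P.obj
        (((EtCoh.pullPushAdj f).unit.app F).hom.app (op V) s) := by
    rw [EtPushStalk.stalkPullIso_hom_eq f ξ F,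
      ← EtPushStalk.stalkPushHom_germ ξ P V v (((EtCoh.pullPushAdj f).unit.app F).hom.app (op V) s)]
    refine congrArg (EtPushStalk.stalkPushHom f ξ P) ?_
    exact GrothendieckTopology.Point.toPresheafFiber_naturality_apply (Scheme.pointSmallEtale (ξ ≫ f))
      ((EtCoh.pullPushAdj f).unit.app F).hom V v s
  rw [hgerm] at hz'
  let τ := ((EtCoh.pullPushAdj f).unit.app F).hom.app (op V) s
  obtain ⟨T, a, b, -⟩ := IsCofilteredOrEmpty.cone_objs
    (Functor.elementsMk (Scheme.pointSmallEtale ξ).fiber o vW)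
    (Functor.elementsMk (Scheme.pointSmallEtale ξ).fiber ((EtCoh.bc f).obj V) (EtPushStalk.up f ξ v))
  let vT : Over.mk ξ ⟶ (Scheme.Etale.forget Y).obj T.1 := T.2
  have e0 : (Scheme.pointSmallEtale ξ).toPresheafFiber T.1 vT P.obj (P.obj.map a.1.op t - P.obj.map b.1.op τ) = 0 := by
    rw [map_sub, sub_eq_zero, GrothendieckTopology.Point.toPresheafFiber_w_apply,
      GrothendieckTopology.Point.toPresheafFiber_w_apply]
    show (Scheme.pointSmallEtale ξ).toPresheafFiber o ((Scheme.pointSmallEtale ξ).fiber.map a.1 vT) P.obj t =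
      (Scheme.pointSmallEtale ξ).toPresheafFiber ((EtCoh.bc f).obj V) ((Scheme.pointSmallEtale ξ).fiber.map b.1 vT) P.obj τ
    rw [show (Scheme.pointSmallEtale ξ).fiber.map a.1 vT = vW from a.2,
      show (Scheme.pointSmallEtale ξ).fiber.map b.1 vT = EtPushStalk.up f ξ v from b.2]
    exact hz'.symm
  obtain ⟨W', g', ⟨w', hw'⟩, h0⟩ := (EtSect.mem_iff P _ _).1 ((EtPushStalk.germ_eq_zero_iff P ξ T.1 vT _).1 e0)
  refine ⟨V, s, W', g' ≫ a.1, g' ≫ b.1, w', ?_, ?_⟩
  · rw [EtFLC.comp_left_apply, hw']
    have h1 := congrArg (fun m : Over.mk ξ ⟶ (Scheme.Etale.forget Y).obj o =>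
      m.left (default : ↥(Spec (CommRingCat.of Ω)))) (show (Scheme.pointSmallEtale ξ).fiber.map a.1 vT = vW from a.2)
    exact h1.trans hη
  · rw [← res_res, ← res_res]
    exact sub_eq_zero.1 ((map_sub _ _ _).symm.trans h0)

variable {X : Scheme.{u}} [IsIntegral X] [IsLocallyNoetherian X] (hfact : EtFact X)

theorem spec_spec {Y : Scheme.{u}} {x y z : Y} (h : y ⤳ x) (h' : z ⤳ y) (h'' : z ⤳ x) (a : Y.presheaf.stalk x) :
    Y.presheaf.stalkSpecializes h' (Y.presheaf.stalkSpecializes h a) = Y.presheaf.stalkSpecializes h'' a := by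
  show (Y.presheaf.stalkSpecializes h').hom ((Y.presheaf.stalkSpecializes h).hom a) = _
  rw [← CommRingCat.comp_apply, TopCat.Presheaf.stalkSpecializes_comp]

/-- rational functions of restrictions -/
theorem rat_res {W V : X.Etale} [IsIntegral W.left] [IsIntegral V.left] (g : V ⟶ W) {t : EtCoh.sect (KGm X) W}
    {f : CDiv.KUnits W.left} {f' : CDiv.KUnits V.left} (hf : Rat t f) (hf' : Rat (res (KGm X) g t) f')
    (p : V.left) (r : W.left.presheaf.stalk (g.left p))
    (hr : algebraMap (W.left.presheaf.stalk (g.left p)) W.left.functionField r = (f : W.left.functionField)) :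
    algebraMap (V.left.presheaf.stalk p) V.left.functionField (g.left.stalkMap p r) =
      (f' : V.left.functionField) := by
  let q : pullback V.hom (locι (genericPoint X)) ⟶ pullback W.hom (locι (genericPoint X)) :=
    ((EtCoh.bc (locι (genericPoint X))).map g).left
  have hq : q ≫ fstK W = fstK V ≫ g.left := (EtCoh.isPullback_bc_map (locι (genericPoint X)) g).w
  obtain ⟨z⟩ := nonempty_pb V
  have key : ∀ (h : (q ≫ fstK W) z ⤳ genericPoint W.left),
      (pullback V.hom (locι (genericPoint X))).presheaf.germ ⊤ z trivial (q.appTop (kval t)) =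
        (q ≫ fstK W).stalkMap z (W.left.presheaf.stalkSpecializes h (f : W.left.functionField)) := by
    intro h
    rw [Scheme.Hom.stalkMap_comp, CommRingCat.comp_apply]
    refine (Scheme.Hom.germ_stalkMap_apply q ⊤ z trivial (kval t)).symm.trans (congrArg _ ?_)
    exact hf (q z) h
  rw [hq] at key
  have hξ : fstK V z ⤳ genericPoint V.left := (fst_eq z).symm ▸ specializes_rfl
  have hξ' : genericPoint V.left ⤳ fstK V z := (fst_eq z).symm ▸ specializes_rfl
  have hW : (fstK V ≫ g.left) z ⤳ genericPoint W.left := by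
    rw [← hq]; exact (fst_eq (W := W) (q z)).symm ▸ specializes_rfl
  have hzp : fstK V z ⤳ p := hξ.trans ((genericPoint_spec V.left).specializes (Set.mem_univ p))
  have hgp : g.left (fstK V z) ⤳ g.left p := hzp.map g.left.continuous
  have e1 := (hf' z hξ).symm.trans (key hW)
  rw [Scheme.Hom.stalkMap_comp, CommRingCat.comp_apply] at e1
  have e2 : W.left.presheaf.stalkSpecializes hW (f : W.left.functionField) = W.left.presheaf.stalkSpecializes hgp r := by
    rw [← hr]
    exact spec_spec _ _ _ r
  rw [e2] at e1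
  have e3 := (bijective_stalkMap_fst V z).1 e1
  have e4 := congrArg (V.left.presheaf.stalkSpecializes hξ') e3
  rw [spec_cancel hξ hξ'] at e4
  refine Eq.trans ?_ e4.symm
  have e5 : g.left.stalkMap (fstK V z) (W.left.presheaf.stalkSpecializes hgp r) =
      V.left.presheaf.stalkSpecializes hzp (g.left.stalkMap p r) :=
    Scheme.Hom.stalkSpecializes_stalkMap_apply g.left _ _ hzp r
  exact ((congrArg _ e5).trans (spec_spec hzp hξ' _ _)).symm

include hfact in
/-- **a uniformizing section at a point of codimension one** -/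
theorem exists_uniformizer (x : X) (hx : Order.coheight x = 1) :
    ∃ τ : EtCoh.sect (Div X) (EtCoh.top X),
      ∀ (V : X.Etale) [IsIntegral V.left] (p : V.left), V.hom p = x →
        ∀ (t : EtCoh.sect (KGm X) V) (f : CDiv.KUnits V.left), Rat t f → ∀ n : ℤ,
          p ∉ EtShriek.sectSupp (Div X) V (cls t - n • res (Div X) (EtMV.toTop V) τ) ↔
            Scheme.ord (f : V.left.functionField) p = n := by
  haveI : IsIntegral (EtCoh.top X).left := inferInstanceAs (IsIntegral X)
  haveI : IsDiscreteValuationRing (X.presheaf.stalk x) :=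
    CDivNormal.isDVR (show Pi1.IsNormalScheme X from isNormal_left hfact (EtCoh.top X)) x hx
  obtain ⟨π, hπ⟩ := IsDiscreteValuationRing.exists_irreducible (X.presheaf.stalk x)
  let f0 : CDiv.KUnits X := CDivNormal.fn π hπ.ne_zero
  obtain ⟨t0, ht0⟩ := rat_surj (W := EtCoh.top X) (show CDiv.KUnits (EtCoh.top X).left from f0)
  refine ⟨cls t0, fun V _ p hp t f hf n => ?_⟩
  haveI : Etale V.hom := V.prop
  have hp1 : Order.coheight p = 1 := by
    rw [coheight_etale (Y := X) V.hom p]
    exact (congrArg Order.coheight hp).trans hx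
  obtain ⟨f1, hf1⟩ := rat_exists (res (KGm X) (EtMV.toTop V) t0)
  have hord1 : Scheme.ord (f1 : V.left.functionField) p = 1 := by
    subst hp
    haveI := CDivNormal.isDVR (isNormal_left hfact V) p hp1
    haveI : Ring.KrullDimLE 1 (V.left.presheaf.stalk p) := krullDimLE_of_coheight_le hp1.le
    have he : algebraMap (V.left.presheaf.stalk p) V.left.functionField ((EtMV.toTop V).left.stalkMap p π) =
        (f1 : V.left.functionField) := rat_res (EtMV.toTop V) ht0 hf1 p π rfl
    have hgen : IsLocalRing.maximalIdeal (V.left.presheaf.stalk p) = Ideal.span {(EtMV.toTop V).left.stalkMap p π} := by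
      haveI := EtSect.etale_left (EtMV.toTop V)
      refine (etale_stalk (Y := X) V.hom p).2.symm.trans ?_
      refine (congrArg (Ideal.map _) ((IsDiscreteValuationRing.irreducible_iff_uniformizer π).1 hπ)).trans ?_
      rw [Ideal.map_span, Set.image_singleton]
      rfl
    rw [← he]
    refine (Scheme.ord_eq_iff hp1 ?_).2 (Ring.ordFrac_irreducible
      ((IsDiscreteValuationRing.irreducible_iff_uniformizer _).2 hgen))
    rw [he]
    exact f1.ne_zero
  have e : cls t - n • res (Div X) (EtMV.toTop V) (cls t0) =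
      cls (t + (-n) • res (KGm X) (EtMV.toTop V) t0) := by
    rw [cls_add, cls_zsmul, res_cls, sub_eq_add_neg, neg_smul]
  rw [e, notMem_supp_iff_ord hfact (rat_add hf (rat_zsmul hf1 (-n))) p hp1, Units.val_mul, Units.val_zpow_eq_zpow_val,
    Scheme.ord_mul f.ne_zero (zpow_ne_zero _ f1.ne_zero), AffDiv.ord_zpow f1.ne_zero, hord1]
  omega

variable (x : {x : X // Order.coheight x = 1})

/-- the uniformizing class -/
def unif : EtCoh.sect (Div X) (EtCoh.top X) := (exists_uniformizer hfact x.1 x.2).choose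

/-- its restriction -/
abbrev unifAt (V : X.Etale) : EtCoh.sect (Div X) V := res (Div X) (EtMV.toTop V) (unif hfact x)

theorem unif_spec (V : X.Etale) [IsIntegral V.left] (p : V.left)
    (hp : V.hom p = x.1) (t : EtCoh.sect (KGm X) V) (f : CDiv.KUnits V.left) (hf : Rat t f) (n : ℤ) :
    p ∉ EtShriek.sectSupp (Div X) V (cls t - n • unifAt hfact x V) ↔
      Scheme.ord (f : V.left.functionField) p = n :=
  (exists_uniformizer hfact x.1 x.2).choose_spec V p hp t f hf n

theorem res_unifAt {V V' : X.Etale} (g : V' ⟶ V) :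
    res (Div X) g (unifAt hfact x V) = unifAt hfact x V' := by
  rw [res_res, EtMV.hom_top_ext (g ≫ EtMV.toTop V) (EtMV.toTop V')]

/-- the residue point -/
abbrev iX : Spec (X.residueField x.1) ⟶ X := X.fromSpecResidueField x.1

/-- the sheaf of integers at the point -/
abbrev Zc : EtCoh.Ab (Spec (X.residueField x.1)) := EtCoh.const _ ℤ

/-- the point lifts to the terminal object -/
def toTopBc : EtCoh.top (Spec (X.residueField x.1)) ⟶ (EtCoh.bc (iX x)).obj (EtCoh.top X) :=
  MorphismProperty.Over.homMk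
    (pullback.lift (iX x) (𝟙 _) (by rw [Category.id_comp]; exact Category.comp_id _))
    (pullback.lift_snd _ _ _)

/-- the generator at the point -/
def gen : EtCoh.sect ((EtCoh.pull (iX x)).obj (Div X)) (EtCoh.top (Spec (X.residueField x.1))) :=
  res _ (toTopBc x) (((EtCoh.pullPushAdj (iX x)).unit.app (Div X)).hom.app (op _) (unif hfact x))

/-- the map from the integers -/
def genHom : Zc x ⟶ (EtCoh.pull (iX x)).obj (Div X) :=
  (Equiv.ofBijective _ (EtMV.κ_bijective _)).symm (gen hfact x)

theorem genHom_cst (W : (Spec (X.residueField x.1)).Etale) (m : ℤ) :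
    (genHom hfact x).hom.app (op W) (EtMV.cst W m) = m • res _ (EtMV.toTop W) (gen hfact x) := by
  have h1 : (genHom hfact x).hom.app (op (EtCoh.top _)) (EtMV.one (Spec (X.residueField x.1))) = gen hfact x :=
    (Equiv.ofBijective _ (EtMV.κ_bijective _)).apply_symm_apply _
  have h2 : EtMV.cst W m = m • EtMV.cst W (1 : ℤ) := by
    show (toSheafify _ (EtMV.cPre0 (Spec (X.residueField x.1)) ℤ)).app (op W) ⟨m⟩ =
      m • (toSheafify _ (EtMV.cPre0 (Spec (X.residueField x.1)) ℤ)).app (op W) ⟨1⟩
    rw [← map_zsmul]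
    exact congrArg _ (ULift.ext _ _ (mul_one m).symm)
  have h3 : EtMV.cst W (1 : ℤ) = res _ (EtMV.toTop W) (EtMV.one (Spec (X.residueField x.1))) := by
    rw [EtMV.constAdj_unit_apply (Spec (X.residueField x.1)) (1 : ℤ) |> fun e => (show EtMV.one _ = _ from e)]
    exact (EtMV.res_cst (EtMV.toTop W) (1 : ℤ)).symm
  rw [h2, map_zsmul, h3, EtFLC.app_res]
  exact congrArg (fun s => m • res _ (EtMV.toTop W) s) h1

theorem fst_over {V : X.Etale} (q : ((EtCoh.bc (iX x)).obj V).left) : V.hom (pullback.fst V.hom (iX x) q) = x.1 :=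
  (congrArg (fun m : pullback V.hom (iX x) ⟶ X => m q) (pullback.condition (f := V.hom) (g := iX x))).trans
    (Scheme.fromSpecResidueField_apply x.1 _)

theorem hom_bc_ext {T : (Spec (X.residueField x.1)).Etale}
    (a b : T ⟶ (EtCoh.bc (iX x)).obj (EtCoh.top X)) : a = b := by
  haveI : Mono ((EtCoh.bc (iX x)).obj (EtCoh.top X)).hom := inferInstanceAs (Mono (pullback.snd (𝟙 X) (iX x)))
  exact MorphismProperty.Over.Hom.ext ((cancel_mono ((EtCoh.bc (iX x)).obj (EtCoh.top X)).hom).1
    ((MorphismProperty.Over.w a).trans (MorphismProperty.Over.w b).symm))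

/-- multiples of the uniformizer near the point -/
theorem unit_res_unif {V : X.Etale} (W : (Spec (X.residueField x.1)).Etale)
    (h : W ⟶ (EtCoh.bc (iX x)).obj V) :
    res _ h (((EtCoh.pullPushAdj (iX x)).unit.app (Div X)).hom.app (op V) (unifAt hfact x V)) =
      res _ (EtMV.toTop W) (gen hfact x) := by
  have e := ConcreteCategory.congr_hom (((EtCoh.pullPushAdj (iX x)).unit.app (Div X)).hom.naturality
    (EtMV.toTop V).op) (unif hfact x)
  refine (congrArg (res _ h) e).trans ?_
  show res _ h (res _ ((EtCoh.bc (iX x)).map (EtMV.toTop V)) _) = res _ (EtMV.toTop W) (res _ (toTopBc x) _)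
  rw [res_res, res_res, hom_bc_ext x (h ≫ (EtCoh.bc (iX x)).map (EtMV.toTop V)) (EtMV.toTop W ≫ toTopBc x)]
  rfl

theorem mem_range_fst {V : X.Etale} (p : V.left) (hp : V.hom p = x.1) :
    ∃ q : ((EtCoh.bc (iX x)).obj V).left, pullback.fst V.hom (iX x) q = p := by
  obtain ⟨q, hq, -⟩ := Scheme.Pullback.exists_preimage_pullback (f := V.hom) (g := iX x) p
    (IsLocalRing.closedPoint (X.residueField x.1)) (hp.trans (Scheme.fromSpecResidueField_apply x.1 _).symm)
  exact ⟨q, hq⟩

/-- every class has a multiplicity near a point over `x` -/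
theorem exists_mult {V : X.Etale} (s : EtCoh.sect (Div X) V) (p : V.left) (hp : V.hom p = x.1) :
    ∃ (V' : X.Etale) (k : V' ⟶ V) (p' : V'.left) (n : ℤ),
      k.left p' = p ∧ p' ∉ EtShriek.sectSupp (Div X) V' (res (Div X) k s - n • unifAt hfact x V') := by
  obtain ⟨V₁, k₁, p₁, t, hp₁, ht⟩ := EtFLC.exists_lift_of_epi (cokernel.π (gmUnit (genericPoint X))) s p
  have hp₁' : V₁.hom p₁ = x.1 := by
    rw [← hp, ← hp₁]
    exact (congrArg (fun m : V₁.left ⟶ X => m p₁) (MorphismProperty.Over.w k₁)).symm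
  obtain ⟨B, hpB, -, -, hB⟩ := exists_integral_sub hfact V₁ p₁ ⊤ trivial
  haveI := hB
  let p' : (sub V₁ B).left := (⟨p₁, hpB⟩ : B)
  obtain ⟨f, hf⟩ := rat_exists (res (KGm X) (subι V₁ B) t)
  refine ⟨sub V₁ B, subι V₁ B ≫ k₁, p', Scheme.ord (f : (sub V₁ B).left.functionField) p', hp₁, ?_⟩
  rw [← res_res, ← ht]
  show p' ∉ EtShriek.sectSupp (Div X) _ (res (Div X) (subι V₁ B) (cls t) - _)
  rw [res_cls]
  exact (unif_spec hfact x (sub V₁ B) p' hp₁' _ f hf _).2 rfl

/-- **the stalk at a point of codimension one is infinite cyclic** -/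
theorem isIso_genHom : IsIso (genHom hfact x) := by
  haveI : Mono (genHom hfact x) := by
    refine Preadditive.mono_of_isZero_kernel _ (isZero_of_zeroAt _ fun y =>
      zeroAt_kernel_of_local _ fun W s w _ hs => ?_)
    obtain ⟨Z, h, z, m, hz, hm⟩ := EtMV.exists_cst s w
    refine (EtSect.mem_iff _ s w).2 ⟨Z, h, ⟨z, hz⟩, hm.trans ?_⟩
    have h0 : m • res ((EtCoh.pull (iX x)).obj (Div X)) (EtMV.toTop Z) (gen hfact x) = 0 := by
      rw [← genHom_cst hfact x Z m, ← hm]
      exact (EtFLC.app_res _ h s).trans ((congrArg _ hs).trans (map_zero _))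
    have hm0 : m = 0 := by
      let U0 := EtCoh.top X
      haveI : IsIntegral U0.left := inferInstanceAs (IsIntegral X)
      let t := EtMV.toTop Z ≫ toTopBc x
      let q := t.left z
      let p := pullback.fst U0.hom (iX x) q
      have hq : q ∉ EtShriek.sectSupp _ ((EtCoh.bc (iX x)).obj U0)
          (((EtCoh.pullPushAdj (iX x)).unit.app (Div X)).hom.app (op U0) (m • unifAt hfact x U0)) := by
        refine (EtSect.mem_iff _ _ q).2 ⟨Z, t, ⟨z, rfl⟩, ?_⟩
        rw [map_zsmul]
        show res _ t (m • _) = 0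
        rw [show res _ t (m • _) = m • res _ t _ from map_zsmul _ _ _, unit_res_unif]
        exact h0
      rw [EtPushStalk.mem_sectSupp_unit_iff] at hq
      have h1 := (unif_spec hfact x U0 p (fst_over x q) 0 1 rat_zero (-m)).1 ?_
      · rw [Units.val_one, AffDiv.ord_one] at h1
        omega
      · rw [show cls (0 : EtCoh.sect (KGm X) U0) = 0 from map_zero _, zero_sub, neg_smul, neg_neg]
        exact hq
    subst hm0
    show EtMV.cst Z (0 : ℤ) = 0
    exact map_zero ((toSheafify _ (EtMV.cPre0 (Spec (X.residueField x.1)) ℤ)).app (op Z)).hom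
  haveI : Epi (genHom hfact x) := by
    refine Preadditive.epi_of_isZero_cokernel _ (isZero_of_zeroAt _ fun y =>
      zeroAt_cokernel_of_local _ fun W t w _ => ?_)
    obtain ⟨V, s, W', g, h, w', hw', hgt⟩ := exists_local_pull (iX x) (Div X) t w
    let p := pullback.fst V.hom (iX x) (h.left w')
    obtain ⟨V', k, p', n, hk, hsupp⟩ := exists_mult hfact x s p (fst_over x _)
    obtain ⟨q', hq'⟩ := mem_range_fst x p' ((congrArg (fun m : V'.left ⟶ X => m p') (MorphismProperty.Over.w k)).symm.trans
      ((congrArg V.hom hk).trans (fst_over x _)))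
    let u := ((EtCoh.pullPushAdj (iX x)).unit.app (Div X))
    have hq0 : q' ∉ EtShriek.sectSupp _ ((EtCoh.bc (iX x)).obj V')
        (u.hom.app (op V') (res (Div X) k s - n • unifAt hfact x V')) := by
      rw [EtPushStalk.mem_sectSupp_unit_iff, hq']
      exact hsupp
    obtain ⟨Q, c, ⟨cq, hcq⟩, h0⟩ := (EtSect.mem_iff _ _ q').1 hq0
    have hpt : (c ≫ (EtCoh.bc (iX x)).map k).left cq = h.left w' := by
      haveI : IsPreimmersion (pullback.fst V.hom (iX x)) :=
        MorphismProperty.pullback_fst _ _ (inferInstanceAs (IsPreimmersion (iX x)))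
      refine (pullback.fst V.hom (iX x)).isEmbedding.injective ?_
      rw [EtFLC.comp_left_apply, hcq]
      refine (congrArg (fun m : ((EtCoh.bc (iX x)).obj V').left ⟶ V.left => m q')
        (EtCoh.isPullback_bc_map (iX x) k).w).trans ?_
      show k.left (pullback.fst V'.hom (iX x) q') = _
      rw [hq', hk]
    obtain ⟨P, a, b, hab, hP⟩ := EtSect.exists_pullback h (c ≫ (EtCoh.bc (iX x)).map k)
    obtain ⟨r, hr⟩ := hP w' cq hpt.symm
    refine ⟨P, a ≫ g, r, ?_, EtMV.cst P n, ?_⟩
    · rw [EtFLC.comp_left_apply, hr, hw']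
    rw [genHom_cst, ← res_res, hgt, res_res, hab, ← res_res, ← res_res]
    have e1 : res ((EtCoh.pull (iX x)).obj (Div X)) ((EtCoh.bc (iX x)).map k) (u.hom.app (op V) s) =
        u.hom.app (op V') (res (Div X) k s) :=
      (ConcreteCategory.congr_hom (u.hom.naturality k.op) s).symm
    have e2 : res ((EtCoh.pull (iX x)).obj (Div X)) c (u.hom.app (op V') (res (Div X) k s)) =
        n • res _ (EtMV.toTop Q) (gen hfact x) := by
      rw [← unit_res_unif hfact x (V := V') Q c]
      refine sub_eq_zero.1 ?_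
      rw [show n • res _ c (u.hom.app (op V') (unifAt hfact x V')) =
        res _ c (n • u.hom.app (op V') (unifAt hfact x V')) from (map_zsmul _ _ _).symm,
        ← map_zsmul]
      exact (map_sub _ _ _).symm.trans ((congrArg _ (map_sub _ _ _).symm).trans h0)
    rw [e1, e2, show res _ b (n • res _ (EtMV.toTop Q) (gen hfact x)) = n • res _ b (res _ (EtMV.toTop Q) (gen hfact x))
      from map_zsmul _ _ _, res_res, EtMV.hom_top_ext (b ≫ EtMV.toTop Q) (EtMV.toTop P)]
  exact isIso_of_mono_of_epi _

/-- **the multiplicity at a point of codimension one** -/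
def val : Div X ⟶ (EtCoh.push (iX x)).obj (Zc x) :=
  haveI := isIso_genHom hfact x
  (EtCoh.pullPushAdj (iX x)).unit.app (Div X) ≫ (EtCoh.push (iX x)).map (inv (genHom hfact x))

/-- the multiplicities as a function on the fibre -/
def valSect {V : X.Etale} (s : EtCoh.sect (Div X) V) : EtCoh.sect (Zc x) ((EtCoh.bc (iX x)).obj V) :=
  (val hfact x).hom.app (op V) s

theorem genHom_valSect {V : X.Etale} (s : EtCoh.sect (Div X) V) :
    (genHom hfact x).hom.app (op ((EtCoh.bc (iX x)).obj V)) (valSect hfact x s) =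
      ((EtCoh.pullPushAdj (iX x)).unit.app (Div X)).hom.app (op V) s := by
  haveI := isIso_genHom hfact x
  exact ConcreteCategory.congr_hom (congrArg (fun m => m.hom.app (op ((EtCoh.bc (iX x)).obj V)))
    (IsIso.inv_hom_id (genHom hfact x))) _

/-- vanishing of the multiplicity -/
theorem valSect_eq_zero_iff {V : X.Etale} (s : EtCoh.sect (Div X) V) :
    valSect hfact x s = 0 ↔ ∀ p : V.left, V.hom p = x.1 → p ∉ EtShriek.sectSupp (Div X) V s := by
  have h1 : valSect hfact x s = 0 ↔ ((EtCoh.pullPushAdj (iX x)).unit.app (Div X)).hom.app (op V) s = 0 := by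
    rw [← genHom_valSect hfact x s]
    refine ⟨fun h => (congrArg _ h).trans (map_zero _), fun h => ?_⟩
    haveI := isIso_genHom hfact x
    haveI : Mono (genHom hfact x).hom := (sheafToPresheaf _ _).map_mono (genHom hfact x)
    exact (AddCommGrpCat.mono_iff_injective ((genHom hfact x).hom.app (op ((EtCoh.bc (iX x)).obj V)))).1
      inferInstance (h.trans (map_zero _).symm)
  rw [h1, EtPushStalk.unit_eq_zero_iff]
  refine ⟨fun h p hp => ?_, ?_⟩
  · obtain ⟨q, rfl⟩ := mem_range_fst x p hp
    exact h ⟨q, rfl⟩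
  · rintro h _ ⟨q, rfl⟩
    exact h _ (fst_over x q)

/-- the value of the multiplicity -/
theorem valAt_valSect {V : X.Etale} (s : EtCoh.sect (Div X) V) 
    (q : ((EtCoh.bc (iX x)).obj V).left) (n : ℤ)
    (h : pullback.fst V.hom (iX x) q ∉ EtShriek.sectSupp (Div X) V (s - n • unifAt hfact x V)) :
    EtMV.valAt (valSect hfact x s) q = n := by
  haveI := isIso_genHom hfact x
  haveI : Mono (genHom hfact x).hom := (sheafToPresheaf _ _).map_mono (genHom hfact x)
  let u := (EtCoh.pullPushAdj (iX x)).unit.app (Div X)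
  have hq : q ∉ EtShriek.sectSupp _ ((EtCoh.bc (iX x)).obj V) (u.hom.app (op V) (s - n • unifAt hfact x V)) := by
    rw [EtPushStalk.mem_sectSupp_unit_iff]
    exact h
  obtain ⟨Q, c, ⟨cq, hcq⟩, h0⟩ := (EtSect.mem_iff _ _ q).1 hq
  refine EtMV.valAt_eq (h := c) cq ?_ |> fun e => hcq ▸ e
  refine (AddCommGrpCat.mono_iff_injective ((genHom hfact x).hom.app (op Q))).1 inferInstance ?_
  refine ((EtFLC.app_res _ c _).trans (congrArg _ (genHom_valSect hfact x s))).trans (Eq.trans ?_ (genHom_cst hfact x Q n).symm)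
  rw [← unit_res_unif hfact x (V := V) Q c]
  refine sub_eq_zero.1 ?_
  rw [show n • res _ c (u.hom.app (op V) (unifAt hfact x V)) =
    res _ c (n • u.hom.app (op V) (unifAt hfact x V)) from (map_zsmul _ _ _).symm, ← map_zsmul]
  exact (map_sub _ _ _).symm.trans ((congrArg _ (map_sub _ _ _).symm).trans h0)

end Groth.Agent.EtDivSeq
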