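import Groth.Agent.EtDivSeq.Comp
import Groth.Agent.EtMV.ConstOpen
import Mathlib

/-!
# Divisors as the quotient of rational functions by units
-/

set_option autoImplicit false
set_option backward.isDefEq.respectTransparency false
set_option backward.isDefEq.respectTransparency.types false
set_option linter.auxLemma false
set_option linter.style.haveILetI false
set_option linter.unusedSectionVars false

universe u

open CategoryTheory CategoryTheory.Limits CategoryTheory.Abelian AlgebraicGeometry Opposite TopologicalSpace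
open Groth.Agent.EtFLC (res res_res res_id)
open Groth.Agent.EtPBC

noncomputable section

namespace Groth.Agent.EtDivSeq

attribute [local instance 100000] EtCoh.H._proof_1 EtMV.hext
attribute [local instance 200000] EtMV.hextAb

section Supp

variable {X : Scheme.{u}} (F : EtCoh.Ab X) {o o' : X.Etale}

theorem notMem_res (g : o' ⟶ o) {s : EtCoh.sect F o} (a : o'.left) (h : g.left a ∉ EtShriek.sectSupp F o s) :
    a ∉ EtShriek.sectSupp F o' (res F g s) := by
  obtain ⟨W, k, ⟨w, hw⟩, h0⟩ := (EtSect.mem_iff F s _).1 h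
  obtain ⟨P, i, j, hij, hP⟩ := EtSect.exists_pullback g k
  obtain ⟨p, hp⟩ := hP a w hw.symm
  refine (EtSect.mem_iff F _ a).2 ⟨P, i, ⟨p, hp⟩, ?_⟩
  show res F i (res F g s) = 0
  rw [res_res, hij, ← res_res]
  exact (congrArg (res F j) h0).trans (map_zero _)

theorem notMem_of_res (g : o' ⟶ o) {s : EtCoh.sect F o} (a : o'.left)
    (h : a ∉ EtShriek.sectSupp F o' (res F g s)) : g.left a ∉ EtShriek.sectSupp F o s := by
  obtain ⟨W, k, ⟨w, hw⟩, h0⟩ := (EtSect.mem_iff F _ a).1 h
  refine (EtSect.mem_iff F s _).2 ⟨W, k ≫ g, ⟨w, by rw [EtFLC.comp_left_apply, hw]⟩, ?_⟩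
  show res F (k ≫ g) s = 0
  rw [← res_res]
  exact h0

theorem notMem_add {s t : EtCoh.sect F o} (a : o.left) (hs : a ∉ EtShriek.sectSupp F o s)
    (ht : a ∉ EtShriek.sectSupp F o t) : a ∉ EtShriek.sectSupp F o (s + t) := by
  obtain ⟨W, k, ⟨w, hw⟩, h0⟩ := (EtSect.mem_iff F s a).1 hs
  obtain ⟨W', k', ⟨w', hw'⟩, h0'⟩ := (EtSect.mem_iff F t a).1 ht
  obtain ⟨P, i, j, hij, hP⟩ := EtSect.exists_pullback k k'
  obtain ⟨p, hp⟩ := hP w w' (hw.trans hw'.symm)
  refine (EtSect.mem_iff F _ a).2 ⟨P, i ≫ k, ⟨p, by rw [EtFLC.comp_left_apply, hp, hw]⟩, ?_⟩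
  show res F (i ≫ k) (s + t) = 0
  rw [show res F (i ≫ k) (s + t) = res F (i ≫ k) s + res F (i ≫ k) t from map_add _ _ _, ← res_res,
    show res F k s = 0 from h0, show res F i (0 : EtCoh.sect F W) = 0 from map_zero _, hij, ← res_res,
    show res F k' t = 0 from h0', show res F j (0 : EtCoh.sect F W') = 0 from map_zero _, add_zero]

theorem notMem_zero (a : o.left) : a ∉ EtShriek.sectSupp F o (0 : EtCoh.sect F o) :=
  (EtSect.mem_iff F _ a).2 ⟨o, 𝟙 o, ⟨a, rfl⟩, map_zero _⟩

theorem notMem_zsmul {s : EtCoh.sect F o} (a : o.left) (hs : a ∉ EtShriek.sectSupp F o s) (n : ℤ) :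
    a ∉ EtShriek.sectSupp F o (n • s) := by
  obtain ⟨W, k, hk, h0⟩ := (EtSect.mem_iff F s a).1 hs
  exact (EtSect.mem_iff F _ a).2 ⟨W, k, hk, (map_zsmul _ _ _).trans (by rw [h0]; exact zsmul_zero n)⟩

theorem notMem_sum {ι : Type*} (S : Finset ι) (s : ι → EtCoh.sect F o) (a : o.left)
    (h : ∀ i ∈ S, a ∉ EtShriek.sectSupp F o (s i)) : a ∉ EtShriek.sectSupp F o (∑ i ∈ S, s i) := by
  classical
  induction S using Finset.induction_on with
  | empty => rw [Finset.sum_empty]; exact notMem_zero F a
  | insert i S hi ih =>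
    rw [Finset.sum_insert hi]
    exact notMem_add F a (h i (Finset.mem_insert_self i S)) (ih fun j hj => h j (Finset.mem_insert_of_mem hj))

end Supp

variable {X : Scheme.{u}} [IsIntegral X] [IsLocallyNoetherian X] (hfact : EtFact X)

omit [IsLocallyNoetherian X] in
/-- finitely many points of codimension one lie in a proper closed subset -/
theorem finite_codim_one {W : Scheme.{u}} [IsIntegral W] [IsNoetherian W] {Z : Set W} (hZ : IsClosed Z)
    (hξ : genericPoint W ∉ Z) : {x : W | x ∈ Z ∧ Order.coheight x = 1}.Finite := by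
  obtain ⟨S, hS, hSc, hSi, hSU⟩ := NoetherianSpace.exists_finite_set_isClosed_irreducible hZ
  haveI := hS.to_subtype
  refine (Set.finite_range fun T : S => (hSi T T.2).genericPoint).subset ?_
  rintro x ⟨hx, hx1⟩
  rw [hSU] at hx
  obtain ⟨T, hT, hxT⟩ := hx
  refine ⟨⟨T, hT⟩, ?_⟩
  have hg := (hSi T hT).isGenericPoint_genericPoint (hSc T hT)
  rcases DivOrd.eq_or_eq_genericPoint hx1 (hg.specializes hxT) with e | e
  · exact e
  · exact absurd (hSU ▸ ⟨T, hT, e ▸ hg.mem⟩) hξ

theorem coheight_over {V : X.Etale} (p : V.left) (x : {x : X // Order.coheight x = 1}) (hp : V.hom p = x.1) :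
    Order.coheight p = 1 := by
  haveI : Etale V.hom := V.prop
  rw [coheight_etale (Y := X) V.hom p]
  exact (congrArg Order.coheight hp).trans x.2

/-- the point under a point of codimension one -/
def under {V : X.Etale} (p : V.left) (hp : Order.coheight p = 1) : {x : X // Order.coheight x = 1} :=
  ⟨V.hom p, by
    haveI : Etale V.hom := V.prop
    exact (coheight_etale (Y := X) V.hom p).symm.trans hp⟩

theorem valSect_res (x : {x : X // Order.coheight x = 1}) {V V' : X.Etale} (g : V' ⟶ V)
    (s : EtCoh.sect (Div X) V) :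
    valSect hfact x (res (Div X) g s) = res (Zc x) ((EtCoh.bc (iX x)).map g) (valSect hfact x s) :=
  EtFLC.app_res (val hfact x) g s

include hfact in
theorem finite_over {W : X.Etale} [IsIntegral W.left] [CompactSpace W.left] (x : {x : X // Order.coheight x = 1}) :
    {p : W.left | W.hom p = x.1}.Finite := by
  haveI : IsNoetherian W.left := {}
  let Z : Set W.left := W.hom ⁻¹' closure {x.1}
  have hξ : genericPoint W.left ∉ Z := fun h => by
    have h1 : x.1 ⤳ genericPoint X := specializes_iff_mem_closure.2 (hom_genericPoint W ▸ h)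
    have h2 := (h1.antisymm ((genericPoint_spec X).specializes (Set.mem_univ x.1))).eq
    have h0 : Order.coheight (genericPoint X) = 0 := Order.coheight_eq_zero.2 fun y _ =>
      (genericPoint_spec X).specializes (Set.mem_univ y)
    exact zero_ne_one (h0.symm.trans ((congrArg Order.coheight h2).symm.trans x.2))
  refine (finite_codim_one (Z := Z) (isClosed_closure.preimage W.hom.continuous) hξ).subset fun p hp => ⟨?_, ?_⟩
  · show W.hom p ∈ closure {x.1}
    rw [show W.hom p = x.1 from hp]
    exact subset_closure rfl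
  · exact coheight_over p x hp

/-- **classes are determined by their multiplicities** -/
theorem eq_zero_of_valSect {V : X.Etale} (s : EtCoh.sect (Div X) V)
    (h : ∀ x, valSect hfact x s = 0) : s = 0 := by
  refine EtSect.eq_zero_of_cover (Div X) s fun v => ?_
  obtain ⟨V₁, k₁, v₁, t, hv₁, ht⟩ := EtFLC.exists_lift_of_epi (cokernel.π (gmUnit (genericPoint X))) s v
  obtain ⟨B, hvB, -, -, hB⟩ := exists_integral_sub hfact V₁ v₁ ⊤ trivial
  haveI := hB
  let W := sub V₁ B
  let t' := res (KGm X) (subι V₁ B) t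
  obtain ⟨f, hf⟩ := rat_exists t'
  have e : res (Div X) (subι V₁ B ≫ k₁) s = cls t' := by
    rw [← res_res, ← ht]
    exact res_cls _ t
  refine ⟨W, subι V₁ B ≫ k₁, ⟨⟨v₁, hvB⟩, hv₁⟩, ?_⟩
  show res (Div X) (subι V₁ B ≫ k₁) s = 0
  rw [e]
  refine EtSect.eq_zero_of_cover (Div X) _ fun y => (EtSect.mem_iff _ _ y).1 ?_
  refine notMem_supp_of_ord hfact hf y fun p _ hp => ?_
  rw [← notMem_supp_iff_ord hfact hf p hp, ← e]
  refine (valSect_eq_zero_iff hfact (under p hp) _).1 ?_ p rfl
  rw [valSect_res, h]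
  exact map_zero _

include hfact in
/-- near a point, any multiplicities over one point of codimension one are realized -/
theorem exists_delta (x : {x : X // Order.coheight x = 1}) {W : X.Etale} [IsIntegral W.left] [CompactSpace W.left]
    (c : EtCoh.sect (Zc x) ((EtCoh.bc (iX x)).obj W)) (w : W.left) :
    ∃ (B : W.left.Opens) (_ : w ∈ B) (e : EtCoh.sect (Div X) (sub W B)),
      valSect hfact x e = res (Zc x) ((EtCoh.bc (iX x)).map (subι W B)) c ∧
        ∀ y, y ≠ x → valSect hfact y e = 0 := by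
  classical
  haveI : IsNoetherian W.left := {}
  have hn := isNormal_left hfact W
  let P : Finset W.left := (finite_over hfact (W := W) x).toFinset.filter fun p => p ⤳ w
  have hP : ∀ p, p ∈ P ↔ W.hom p = x.1 ∧ p ⤳ w := fun p => by simp [P]
  have hdelta : ∀ p : P, ∃ (t : EtCoh.sect (KGm X) W) (n : ℤ),
      (∀ z : W.left, z ⤳ w → z ≠ p.1 → Order.coheight z = 1 → z ∉ EtShriek.sectSupp (Div X) W (cls t)) ∧
      (p.1 ∉ EtShriek.sectSupp (Div X) W (cls t - (1 : ℤ) • unifAt hfact x W)) ∧
      ∃ q : ((EtCoh.bc (iX x)).obj W).left, pullback.fst W.hom (iX x) q = p.1 ∧ EtMV.valAt c q = n := by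
    intro p
    obtain ⟨hpx, hpw⟩ := (hP p.1).1 p.2
    haveI := (hfact W w).2
    obtain ⟨f, hf1, hf0⟩ := CDivNormal.exists_fn_ord_delta hn hpw (coheight_over p.1 x hpx)
    obtain ⟨t, ht⟩ := rat_surj f
    obtain ⟨q, hq⟩ := mem_range_fst x p.1 hpx
    exact ⟨t, EtMV.valAt c q, fun z hz hne hz1 => (notMem_supp_iff_ord hfact ht z hz1).2 (hf0 z hz hne hz1),
      (unif_spec hfact x W p.1 hpx t f ht 1).2 hf1, q, hq, rfl⟩
  choose t n ht0 ht1 q hq hqn using hdelta
  let e : EtCoh.sect (Div X) W := ∑ p : P, n p • cls (t p)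
  have hsum : ∀ z : W.left, z ⤳ w → Order.coheight z = 1 → (∀ p : P, z ≠ p.1) →
      z ∉ EtShriek.sectSupp (Div X) W e := fun z hz hz1 hne =>
    notMem_sum (Div X) _ _ z fun p _ => notMem_zsmul (Div X) z (ht0 p z hz (hne p) hz1) (n p)
  -- the finitely many bad points
  let Z : Set W.left := {z | z ∈ EtShriek.sectSupp (Div X) W e ∧ Order.coheight z = 1} ∪ {z | W.hom z = x.1}
  have hZ : Z.Finite := by
    refine Set.Finite.union (finite_codim_one (EtSect.isClosed_sectSupp (Div X) e) ?_) (finite_over hfact x)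
    exact notMem_sum (Div X) _ _ _ fun p _ => notMem_zsmul (Div X) _ (genericPoint_notMem_supp hfact (t p)) (n p)
  let B : W.left.Opens := ⟨(closure {z | z ∈ Z ∧ ¬ z ⤳ w})ᶜ, isClosed_closure.isOpen_compl⟩
  have hwB : w ∈ B := by
    show w ∉ closure {z | z ∈ Z ∧ ¬ z ⤳ w}
    rw [← Set.biUnion_of_singleton {z | z ∈ Z ∧ ¬ z ⤳ w}, (hZ.subset fun z hz => hz.1).closure_biUnion]
    simp only [Set.mem_iUnion, not_exists]
    exact fun z hz h => hz.2 (specializes_iff_mem_closure.2 h)
  have hB : ∀ z : W.left, z ∈ B → z ∈ Z → z ⤳ w := fun z hzB hzZ => by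
    by_contra h
    exact hzB (subset_closure ⟨hzZ, h⟩)
  have hhom : ∀ a : (sub W B).left, (sub W B).hom a = W.hom ((subι W B).left a) := fun a =>
    (congrArg (fun m : (sub W B).left ⟶ X => m a) (MorphismProperty.Over.w (subι W B))).symm
  refine ⟨B, hwB, res (Div X) (subι W B) e, ?_, fun y hy => ?_⟩
  · refine EtMV.ext_valAt_all fun a => ?_
    refine Eq.trans ?_ (EtMV.valAt_res ((EtCoh.bc (iX x)).map (subι W B)) c a).symm
    let qa := ((EtCoh.bc (iX x)).map (subι W B)).left a
    let pa := pullback.fst W.hom (iX x) qa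
    have hpB : pa ∈ B := by
      have h : pa = (subι W B).left (pullback.fst (sub W B).hom (iX x) a) :=
        congrArg (fun m : ((EtCoh.bc (iX x)).obj (sub W B)).left ⟶ W.left => m a)
          (EtCoh.isPullback_bc_map (iX x) (subι W B)).w
      rw [h]
      exact (pullback.fst (sub W B).hom (iX x) a : B).2
    have hpx : W.hom pa = x.1 := fst_over x qa
    have hpP : pa ∈ P := (hP pa).2 ⟨hpx, hB pa hpB (Or.inr hpx)⟩
    have hqq : qa = q ⟨pa, hpP⟩ := by
      haveI : IsPreimmersion (pullback.fst W.hom (iX x)) :=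
        MorphismProperty.pullback_fst _ _ (inferInstanceAs (IsPreimmersion (iX x)))
      exact (pullback.fst W.hom (iX x)).isEmbedding.injective (hq ⟨pa, hpP⟩).symm
    rw [valSect_res]
    refine (EtMV.valAt_res ((EtCoh.bc (iX x)).map (subι W B)) (valSect hfact x e) a).trans ?_
    show EtMV.valAt (valSect hfact x e) qa = EtMV.valAt c qa
    rw [hqq, hqn]
    refine valAt_valSect hfact x e _ (n ⟨pa, hpP⟩) ?_
    show pullback.fst W.hom (iX x) (q ⟨pa, hpP⟩) ∉ _
    rw [hq ⟨pa, hpP⟩]
    have e1 : e - n ⟨pa, hpP⟩ • unifAt hfact x W =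
        n ⟨pa, hpP⟩ • (cls (t ⟨pa, hpP⟩) - (1 : ℤ) • unifAt hfact x W) +
          ∑ p ∈ Finset.univ.erase ⟨pa, hpP⟩, n p • cls (t p) := by
      rw [one_smul, smul_sub]
      show (∑ p : P, n p • cls (t p)) - _ = _
      rw [← Finset.add_sum_erase Finset.univ _ (Finset.mem_univ (⟨pa, hpP⟩ : P))]
      abel
    rw [e1]
    refine notMem_add (Div X) pa (notMem_zsmul (Div X) pa (ht1 ⟨pa, hpP⟩) _) (notMem_sum (Div X) _ _ pa fun p hp => ?_)
    exact notMem_zsmul (Div X) pa (ht0 p pa ((hP pa).1 hpP).2 (fun h => (Finset.mem_erase.1 hp).1 (Subtype.ext h.symm))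
      (coheight_over pa x hpx)) _
  · refine (valSect_eq_zero_iff hfact y _).2 fun a ha => notMem_res (Div X) (subι W B) a ?_
    have hay : W.hom ((subι W B).left a) = y.1 := (hhom a).symm.trans ha
    by_contra hsupp
    have hz : (subι W B).left a ⤳ w := hB _ (a : B).2 (Or.inl ⟨hsupp, coheight_over _ y hay⟩)
    exact hsum _ hz (coheight_over _ y hay) (fun p h =>
      hy (Subtype.ext (hay.symm.trans ((congrArg W.hom h).trans ((hP p.1).1 p.2).1)))) hsupp

theorem valSect_sum (x : {x : X // Order.coheight x = 1}) {V : X.Etale} {ι : Type*} (S : Finset ι)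
    (s : ι → EtCoh.sect (Div X) V) : valSect hfact x (∑ i ∈ S, s i) = ∑ i ∈ S, valSect hfact x (s i) :=
  map_sum ((val hfact x).hom.app (op V)).hom s S

/-- the multiplicities away from one point -/
def valOther (x : {x : X // Order.coheight x = 1}) :=
  Pi.lift fun y : {y : {x : X // Order.coheight x = 1} // y ≠ x} => val hfact y.1

/-- classes supported over one point of codimension one -/
def supported (x : {x : X // Order.coheight x = 1}) : EtCoh.Ab X := kernel (valOther hfact x)

/-- their multiplicity -/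
def supportedVal (x : {x : X // Order.coheight x = 1}) : supported hfact x ⟶ (EtCoh.push (iX x)).obj (Zc x) :=
  kernel.ι (valOther hfact x) ≫ val hfact x

theorem valSect_kernel_ι (x y : {x : X // Order.coheight x = 1}) (hy : y ≠ x) {V : X.Etale}
    (s : EtCoh.sect (supported hfact x) V) :
    valSect hfact y ((kernel.ι (valOther hfact x)).hom.app (op V) s) = 0 := by
  have h : kernel.ι (valOther hfact x) ≫ val hfact y = 0 := by
    rw [← (Pi.lift_π (fun y : {y : {x : X // Order.coheight x = 1} // y ≠ x} => val hfact y.1) ⟨y, hy⟩),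
      ← Category.assoc]
    exact (congrArg (· ≫ _) (kernel.condition (valOther hfact x))).trans zero_comp
  exact congrArg (fun m : supported hfact x ⟶ _ => m.hom.app (op V) s) h

theorem exists_supported_sect (x : {x : X // Order.coheight x = 1}) {V : X.Etale} (e : EtCoh.sect (Div X) V)
    (he : ∀ y, y ≠ x → valSect hfact y e = 0) :
    ∃ t : EtCoh.sect (supported hfact x) V, (kernel.ι (valOther hfact x)).hom.app (op V) t = e := by
  refine EtFLC.exists_kernel_sect (valOther hfact x) e ?_
  have h : (EtMV.σ (o := V)).symm e ≫ valOther hfact x = 0 := Limits.Pi.hom_ext _ _ fun y => by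
    rw [Category.assoc, valOther, Pi.lift_π, zero_comp]
    refine EtMV.σ.injective ?_
    rw [EtMV.σ_comp, Equiv.apply_symm_apply]
    refine (he y.1 y.2).trans ?_
    exact ((AddMonoidHom.mk' (EtMV.σ (o := V) (G := (EtCoh.push (iX y.1)).obj (Zc y.1))) EtMV.σ_add).map_zero).symm
  have h' := congrArg EtMV.σ h
  rw [EtMV.σ_comp, Equiv.apply_symm_apply] at h'
  exact h'.trans ((AddMonoidHom.mk' (EtMV.σ (o := V)) EtMV.σ_add).map_zero)

theorem isIso_supportedVal (x : {x : X // Order.coheight x = 1}) : IsIso (supportedVal hfact x) := by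
  haveI : Mono (supportedVal hfact x) := by
    refine Preadditive.mono_of_isZero_kernel _ (isZero_of_zeroAt _ fun _ =>
      zeroAt_kernel_of_local _ fun V s v _ hs => ?_)
    refine (EtSect.mem_iff _ s v).2 ⟨V, 𝟙 V, ⟨v, rfl⟩, ?_⟩
    show res _ (𝟙 V) s = 0
    rw [res_id]
    haveI : Mono (kernel.ι (valOther hfact x)).hom := (sheafToPresheaf _ _).map_mono _
    refine (AddCommGrpCat.mono_iff_injective ((kernel.ι (valOther hfact x)).hom.app (op V))).1 inferInstance
      ((eq_zero_of_valSect hfact _ fun y => ?_).trans (map_zero _).symm)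
    by_cases hy : y = x
    · subst hy
      exact hs
    · exact valSect_kernel_ι hfact x y hy s
  haveI : Epi (supportedVal hfact x) := by
    refine Preadditive.epi_of_isZero_cokernel _ (isZero_of_zeroAt _ fun _ =>
      zeroAt_cokernel_of_local _ fun V c v _ => ?_)
    obtain ⟨A, hvA, -, hA, hAi⟩ := exists_integral_sub hfact V v ⊤ trivial
    haveI := hAi
    haveI : CompactSpace (sub V A).left := isCompact_iff_compactSpace.1 hA.isCompact
    obtain ⟨B, hvB, e, he, he0⟩ := exists_delta hfact x
      (res (Zc x) ((EtCoh.bc (iX x)).map (subι V A)) c) (⟨v, hvA⟩ : A)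
    obtain ⟨s, hs⟩ := exists_supported_sect hfact x e he0
    refine ⟨sub (sub V A) B, subι _ B ≫ subι V A, ⟨⟨v, hvA⟩, hvB⟩, rfl, s, ?_⟩
    refine (congrArg ((val hfact x).hom.app (op (sub (sub V A) B))) hs).trans (he.trans ?_)
    show _ = res (Zc x) ((EtCoh.bc (iX x)).map (subι _ B ≫ subι V A)) c
    rw [Functor.map_comp, ← res_res]
  exact isIso_of_mono_of_epi _

/-- the divisor at a point of codimension one -/
def delta (x : {x : X // Order.coheight x = 1}) : (EtCoh.push (iX x)).obj (Zc x) ⟶ Div X :=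
  haveI := isIso_supportedVal hfact x
  inv (supportedVal hfact x) ≫ kernel.ι (valOther hfact x)

theorem delta_val (x : {x : X // Order.coheight x = 1}) : delta hfact x ≫ val hfact x = 𝟙 _ := by
  haveI := isIso_supportedVal hfact x
  rw [delta, Category.assoc]
  exact IsIso.inv_hom_id _

theorem delta_val_ne (x y : {x : X // Order.coheight x = 1}) (hy : y ≠ x) : delta hfact x ≫ val hfact y = 0 := by
  haveI := isIso_supportedVal hfact x
  rw [delta, Category.assoc, ← (Pi.lift_π (fun y : {y : {x : X // Order.coheight x = 1} // y ≠ x} => val hfact y.1) ⟨y, hy⟩),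
    ← Category.assoc (kernel.ι (valOther hfact x))]
  exact (congrArg (fun m => inv (supportedVal hfact x) ≫ m ≫ _) (kernel.condition (valOther hfact x))).trans
    (by rw [zero_comp, comp_zero])

/-- the skyscrapers at the points of codimension one -/
abbrev skyFun (X : Scheme.{u}) : {x : X // Order.coheight x = 1} → EtCoh.Ab X :=
  fun x => (EtCoh.push (X.fromSpecResidueField x.1)).obj (EtCoh.const (Spec (X.residueField x.1)) ℤ)

/-- the map from divisors -/
def divDesc (c : Cofan (skyFun X)) (hc : IsColimit c) : c.pt ⟶ Div X := Cofan.IsColimit.desc hc fun x => delta hfact x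

theorem inj_divDesc (c : Cofan (skyFun X)) (hc : IsColimit c) (x : {x : X // Order.coheight x = 1}) :
    c.inj x ≫ divDesc hfact c hc = delta hfact x := Cofan.IsColimit.fac hc _ x

theorem epi_divDesc (c : Cofan (skyFun X)) (hc : IsColimit c) : Epi (divDesc hfact c hc) := by
  classical
  refine Preadditive.epi_of_isZero_cokernel _ (isZero_of_zeroAt _ fun _ =>
    zeroAt_cokernel_of_local _ fun V s v _ => ?_)
  obtain ⟨V₁, k₁, v₁, t, hv₁, ht⟩ := EtFLC.exists_lift_of_epi (cokernel.π (gmUnit (genericPoint X))) s v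
  obtain ⟨A, hvA, -, hA, hAi⟩ := exists_integral_sub hfact V₁ v₁ ⊤ trivial
  haveI := hAi
  let W := sub V₁ A
  haveI : CompactSpace W.left := isCompact_iff_compactSpace.1 hA.isCompact
  let k : W ⟶ V := subι V₁ A ≫ k₁
  have e : res (Div X) k s = cls (res (KGm X) (subι V₁ A) t) := by
    rw [← res_res, ← ht]
    exact res_cls _ t
  have hfin : ({p : W.left | p ∈ EtShriek.sectSupp (Div X) W (res (Div X) k s) ∧ Order.coheight p = 1}).Finite := by
    rw [e]; exact finite_supp_codim_one hfact _
  let S : Finset {x : X // Order.coheight x = 1} := hfin.toFinset.attach.image fun p =>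
    under p.1 ((hfin.mem_toFinset.1 p.2).2)
  let z : EtCoh.sect c.pt W := ∑ x ∈ S, (c.inj x).hom.app (op W) (valSect hfact x (res (Div X) k s))
  refine ⟨W, k, ⟨v₁, hvA⟩, hv₁, z, ?_⟩
  have hz : (divDesc hfact c hc).hom.app (op W) z =
      ∑ x ∈ S, (delta hfact x).hom.app (op W) (valSect hfact x (res (Div X) k s)) := by
    refine (map_sum _ _ _).trans (Finset.sum_congr rfl fun x _ => ?_)
    exact congrArg (fun m : (skyFun X x) ⟶ Div X => m.hom.app (op W) (valSect hfact x (res (Div X) k s)))
      (inj_divDesc hfact c hc x)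
  rw [← sub_eq_zero]
  refine eq_zero_of_valSect hfact _ fun y => ?_
  show (val hfact y).hom.app (op W) (_ - _) = 0
  rw [map_sub, sub_eq_zero, hz]
  refine (map_sum _ _ _).trans ?_
  have h1 : ∀ x, (val hfact y).hom.app (op W) ((delta hfact x).hom.app (op W) (valSect hfact x (res (Div X) k s))) =
      if h : x = y then valSect hfact y (res (Div X) k s) else 0 := fun x => by
    split_ifs with h
    · subst h
      exact congrArg (fun m : (EtCoh.push (iX x)).obj (Zc x) ⟶ _ => m.hom.app (op W) (valSect hfact x (res (Div X) k s)))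
        (delta_val hfact x)
    · exact congrArg (fun m : (EtCoh.push (iX x)).obj (Zc x) ⟶ _ => m.hom.app (op W) (valSect hfact x (res (Div X) k s)))
        (delta_val_ne hfact x y (Ne.symm h))
  rw [Finset.sum_congr rfl fun x _ => h1 x, Finset.sum_dite_eq']
  split_ifs with h
  · rfl
  · refine ((valSect_eq_zero_iff hfact y _).2 fun p hp => ?_).symm
    by_contra hsupp
    refine h (Finset.mem_image.2 ⟨⟨p, hfin.mem_toFinset.2 ⟨hsupp, coheight_over p y hp⟩⟩, Finset.mem_attach _ _, ?_⟩)
    exact Subtype.ext hp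

theorem mono_divDesc (c : Cofan (skyFun X)) (hc : IsColimit c) : Mono (divDesc hfact c hc) := by
  classical
  refine Preadditive.mono_of_isZero_kernel _ (isZero_of_zeroAt _ fun p => ?_)
  obtain ⟨Ω, _, _, ξ, hξ⟩ := exists_geomPt p
  refine zeroAt_kernel hξ _ ?_
  haveI : (EtCoh.stalk ξ).Additive := Functor.additive_of_preserves_binary_products _
  let Φ := EtCoh.stalk ξ
  have hs := isColimitOfPreserves Φ hc
  rw [injective_iff_map_eq_zero]
  intro z hz
  let π : {x : X // Order.coheight x = 1} → ((Φ.obj c.pt : AddCommGrpCat) →+ (Φ.obj c.pt : AddCommGrpCat)) := fun y =>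
    (Φ.map (divDesc hfact c hc ≫ val hfact y ≫ c.inj y)).hom
  let G : AddSubgroup (Φ.obj c.pt : AddCommGrpCat) :=
    { carrier := {z | ∃ S : Finset {x : X // Order.coheight x = 1}, z = ∑ y ∈ S, π y z ∧ ∀ y ∉ S, π y z = 0}
      zero_mem' := ⟨∅, by simp⟩
      add_mem' := by
        rintro a b ⟨S, hS, hS0⟩ ⟨T, hT, hT0⟩
        refine ⟨S ∪ T, ?_, fun y hy => ?_⟩
        · simp only [map_add, Finset.sum_add_distrib]
          rw [← Finset.sum_subset Finset.subset_union_left fun y _ hy => hS0 y hy,
            ← Finset.sum_subset Finset.subset_union_right fun y _ hy => hT0 y hy, ← hS, ← hT]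
        · rw [map_add, hS0 y (fun h => hy (Finset.mem_union_left _ h)),
            hT0 y (fun h => hy (Finset.mem_union_right _ h)), add_zero]
      neg_mem' := by
        rintro a ⟨S, hS, hS0⟩
        exact ⟨S, by simp only [map_neg, Finset.sum_neg_distrib]; rw [← hS],
          fun y hy => by rw [map_neg, hS0 y hy, neg_zero]⟩ }
  have hgen : ∀ (x : {x : X // Order.coheight x = 1}) (a : (Φ.obj (skyFun X x) : AddCommGrpCat)),
      Φ.map (c.inj x) a ∈ G := by
    intro x a
    have hx : ∀ y, π y (Φ.map (c.inj x) a) = if y = x then Φ.map (c.inj x) a else 0 := fun y => by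
      show Φ.map (divDesc hfact c hc ≫ val hfact y ≫ c.inj y) (Φ.map (c.inj x) a) = _
      rw [← ConcreteCategory.comp_apply, ← Φ.map_comp, ← Category.assoc, inj_divDesc]
      split_ifs with h
      · subst h
        rw [← Category.assoc, delta_val, Category.id_comp]
      · rw [← Category.assoc, delta_val_ne hfact x y h, zero_comp, Φ.map_zero]
        rfl
    refine ⟨{x}, ?_, fun y hy => ?_⟩
    · rw [Finset.sum_singleton, hx, if_pos rfl]
    · rw [hx, if_neg (by simpa using hy)]
  have hzG : z ∈ G := by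
    have hq : AddCommGrpCat.ofHom (QuotientAddGroup.mk' G) = 0 := hs.hom_ext fun ⟨x⟩ => by
      ext a
      simp only [AddCommGrpCat.hom_comp, AddMonoidHom.comp_apply]
      exact (QuotientAddGroup.eq_zero_iff _).2 (hgen x a) |>.trans (by simp)
    exact (QuotientAddGroup.eq_zero_iff z).1 (ConcreteCategory.congr_hom hq z)
  obtain ⟨S, hS, -⟩ := hzG
  rw [hS]
  refine Finset.sum_eq_zero fun y _ => ?_
  show Φ.map (divDesc hfact c hc ≫ val hfact y ≫ c.inj y) z = 0
  rw [Φ.map_comp, ConcreteCategory.comp_apply, hz, map_zero]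

include hfact in
/-- **the divisor sequence** -/
theorem nonempty_iso_coprod (c : Cofan (skyFun X)) (hc : IsColimit c) :
    Nonempty (cokernel (gmUnit (genericPoint X)) ≅ c.pt) :=
  haveI := epi_divDesc hfact c hc
  haveI := mono_divDesc hfact c hc
  haveI := isIso_of_mono_of_epi (divDesc hfact c hc)
  ⟨(asIso (divDesc hfact c hc)).symm⟩

end Groth.Agent.EtDivSeq
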