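import Groth.Agent.EtDivSeq.Main
import Groth.Agent.EtPBC.FieldMu
import Groth.Agent.EtPushStalk.OpenImm
import Mathlib

/-!
# The unit map into rational functions restricted to an integral open
-/

set_option autoImplicit false
set_option backward.isDefEq.respectTransparency false
set_option backward.isDefEq.respectTransparency.types false
set_option linter.auxLemma false
set_option linter.style.haveILetI false
set_option linter.unusedSectionVars false

universe u

open CategoryTheory CategoryTheory.Limits CategoryTheory.Abelian AlgebraicGeometry Opposite TopologicalSpace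
open Groth.Agent.EtPBC

noncomputable section

namespace Groth.Agent.EtDivSeq

attribute [local instance 100000] EtCoh.H._proof_1 EtMV.hext
attribute [local instance 200000] EtMV.hextAb

variable {X U : Scheme.{u}} (j : U ⟶ X) [IsOpenImmersion j] (z : U)

theorem stalkMap_locι : Spec.map (j.stalkMap z) ≫ locι (j z) = locι z ≫ j := Scheme.SpecMap_stalkMap_fromSpecStalk j

/-- fibres over a point of an open subscheme -/
def pbIso (W : U.Etale) :
    pullback (W.hom ≫ j) (locι (j z)) ≅ pullback W.hom (locι z) where
  hom := pullback.lift (pullback.fst _ _) (pullback.snd _ _ ≫ inv (Spec.map (j.stalkMap z))) (by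
    rw [← cancel_mono j, Category.assoc, pullback.condition, Category.assoc, Category.assoc, ← stalkMap_locι j z,
      IsIso.inv_hom_id_assoc])
  inv := pullback.lift (pullback.fst _ _) (pullback.snd _ _ ≫ Spec.map (j.stalkMap z)) (by
    rw [Category.assoc, stalkMap_locι, pullback.condition_assoc])
  hom_inv_id := by apply pullback.hom_ext <;> simp
  inv_hom_id := by apply pullback.hom_ext <;> simp

theorem pbIso_inv_fst (W : U.Etale) :
    (pbIso j z W).inv ≫ pullback.fst (W.hom ≫ j) (locι (j z)) = pullback.fst W.hom (locι z) :=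
  pullback.lift_fst _ _ _

/-- rational functions restrict to rational functions -/
def restrKIso :
    (EtShriek.restrAlong j).obj ((EtCoh.push (locι (j z))).obj (EtCoh.Gm (locScheme (j z)))) ≅
      (EtCoh.push (locι z)).obj (EtCoh.Gm (locScheme z)) :=
  (fullyFaithfulSheafToPresheaf U.smallEtaleTopology AddCommGrpCat.{u + 1}).preimageIso
    (NatIso.ofComponents (fun W => EtCoh.ΓUnits.mapIso (pbIso j z W.unop).op.symm) fun {W W'} g => by
      show EtCoh.ΓUnits.map ((EtCoh.bc (locι (j z))).map ((EtShriek.compEtale j).map g.unop)).left.op ≫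
          EtCoh.ΓUnits.map (pbIso j z W'.unop).inv.op =
        EtCoh.ΓUnits.map (pbIso j z W.unop).inv.op ≫ EtCoh.ΓUnits.map ((EtCoh.bc (locι z)).map g.unop).left.op
      rw [← EtCoh.ΓUnits.map_comp, ← EtCoh.ΓUnits.map_comp, ← op_comp, ← op_comp]
      refine congrArg (fun m => EtCoh.ΓUnits.map (Quiver.Hom.op m)) ?_
      let gX := ((EtCoh.bc (locι (j z))).map ((EtShriek.compEtale j).map g.unop))
      let gU := ((EtCoh.bc (locι z)).map g.unop)
      have hX₁ : gX.left ≫ pullback.fst (W.unop.hom ≫ j) (locι (j z)) =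
          pullback.fst (W'.unop.hom ≫ j) (locι (j z)) ≫ g.unop.left :=
        (EtCoh.isPullback_bc_map (locι (j z)) ((EtShriek.compEtale j).map g.unop)).w
      have hX₂ : gX.left ≫ pullback.snd (W.unop.hom ≫ j) (locι (j z)) = pullback.snd (W'.unop.hom ≫ j) (locι (j z)) :=
        MorphismProperty.Over.w gX
      have hU₁ : gU.left ≫ pullback.fst W.unop.hom (locι z) = pullback.fst W'.unop.hom (locι z) ≫ g.unop.left :=
        (EtCoh.isPullback_bc_map (locι z) g.unop).w
      have hU₂ : gU.left ≫ pullback.snd W.unop.hom (locι z) = pullback.snd W'.unop.hom (locι z) :=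
        MorphismProperty.Over.w gU
      have h₁ : ∀ V : U.Etale, (pbIso j z V).inv ≫ pullback.snd (V.hom ≫ j) (locι (j z)) =
          pullback.snd V.hom (locι z) ≫ Spec.map (j.stalkMap z) := fun V => pullback.lift_snd _ _ _
      refine pullback.hom_ext ((Category.assoc _ _ _).trans ?_) ((Category.assoc _ _ _).trans ?_)
      · refine (congrArg ((pbIso j z W'.unop).inv ≫ ·) hX₁).trans (Eq.trans ?_ (Category.assoc _ _ _).symm)
        exact ((Category.assoc _ _ _).symm.trans ((congrArg (· ≫ g.unop.left) (pbIso_inv_fst j z W'.unop)).trans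
          hU₁.symm)).trans (congrArg (gU.left ≫ ·) (pbIso_inv_fst j z W.unop).symm)
      · refine (congrArg ((pbIso j z W'.unop).inv ≫ ·) hX₂).trans (Eq.trans ?_ (Category.assoc _ _ _).symm)
        exact ((h₁ W'.unop).trans ((congrArg (· ≫ Spec.map (j.stalkMap z)) hU₂.symm).trans
          (Category.assoc _ _ _))).trans (congrArg (gU.left ≫ ·) (h₁ W.unop).symm))

/-- the unit map restricts to the unit map -/
theorem restr_gmUnit [EtShriek.JCont j] :
    (EtShriek.restrAlong j).map (gmUnit (j z)) ≫ (restrKIso j z).hom = (gmRestrIso j).hom ≫ gmUnit z := by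
  refine ObjectProperty.hom_ext _ (NatTrans.ext (funext fun W => ?_))
  show EtCoh.ΓUnits.map (pullback.fst (W.unop.hom ≫ j) (locι (j z))).op ≫
      EtCoh.ΓUnits.map (pbIso j z W.unop).inv.op = 𝟙 _ ≫ EtCoh.ΓUnits.map (pullback.fst W.unop.hom (locι z)).op
  rw [← EtCoh.ΓUnits.map_comp, ← op_comp, pbIso_inv_fst, Category.id_comp]

/-- the unit map pulls back to the unit map -/
theorem exists_pull_gmUnit_iso :
    ∃ (a : (EtCoh.pull j).obj (EtCoh.Gm X) ≅ EtCoh.Gm U)
      (b : (EtCoh.pull j).obj ((EtCoh.push (locι (j z))).obj (EtCoh.Gm (locScheme (j z)))) ≅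
        (EtCoh.push (locι z)).obj (EtCoh.Gm (locScheme z))),
      (EtCoh.pull j).map (gmUnit (j z)) ≫ b.hom = a.hom ≫ gmUnit z := by
  haveI := EtMV.jcont_etale j
  refine ⟨gmPullIso j, ((EtPushStalk.restrPullIso j).app _).symm ≪≫ restrKIso j z, ?_⟩
  show (EtCoh.pull j).map _ ≫ (EtPushStalk.restrPullIso j).inv.app _ ≫ _ = _
  rw [← Category.assoc, NatTrans.naturality, Category.assoc, restr_gmUnit]
  exact (Category.assoc _ _ _).symm

end Groth.Agent.EtDivSeq
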