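import Groth.Agent.EtDivSeq.Main
import Groth.Agent.S0065
import Groth.Agent.S2821
import Mathlib

/-!
# Regular schemes
-/

set_option autoImplicit false
set_option backward.isDefEq.respectTransparency false
set_option backward.isDefEq.respectTransparency.types false
set_option linter.auxLemma false
set_option linter.style.haveILetI false
set_option linter.unusedSectionVars false

universe u

open CategoryTheory CategoryTheory.Limits AlgebraicGeometry Opposite
open Groth.Agent.EtPBC

noncomputable section

namespace Groth.Agent.EtDivSeq

variable {X : Scheme.{u}}

theorem etFact_of_regular [IsLocallyNoetherian X] (hreg : ∀ x : ↥X, IsRegularLocalRing (X.presheaf.stalk x)) :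
    EtFact X := fun U v => by
  haveI : Etale U.hom := U.prop
  haveI : IsRegularLocalRing (U.left.presheaf.stalk v) := (Groth.Agent.S0065.result (Y := X) U.hom v).2 (hreg _)
  exact Groth.Agent.S2821.result (U.left.presheaf.stalk v)

/-- reindexed form of the divisor sequence -/
theorem nonempty_iso_of_iff [IsIntegral X] [IsLocallyNoetherian X] (hfact : EtFact X) (P : X → Prop)
    (hP : ∀ x, P x ↔ Order.coheight x = 1)
    (c : Cofan fun x : {x : ↥X // P x} => (EtCoh.push (X.fromSpecResidueField x.1)).obj
      (EtCoh.const (Spec (X.residueField x.1)) ℤ)) (hc : IsColimit c) :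
    Nonempty (cokernel (gmUnit (genericPoint X)) ≅ c.pt) := by
  obtain rfl : P = fun x => Order.coheight x = 1 := funext fun x => propext (hP x)
  exact nonempty_iso_coprod hfact c hc

end Groth.Agent.EtDivSeq
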