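import Groth.Agent.EtDivSeq.Basic
import Groth.Agent.Hensel.Fibres
import Mathlib

/-!
# Classes of rational functions modulo units
-/

set_option autoImplicit false
set_option backward.isDefEq.respectTransparency false
set_option backward.isDefEq.respectTransparency.types false
set_option linter.auxLemma false
set_option linter.style.haveILetI false
set_option linter.unusedSectionVars false

universe u

open CategoryTheory CategoryTheory.Limits CategoryTheory.Abelian AlgebraicGeometry Opposite TopologicalSpace
open Groth.Agent.EtFLC (res res_res res_id)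
open Groth.Agent.EtPBC

noncomputable section

namespace Groth.Agent.EtDivSeq

attribute [local instance 100000] EtCoh.H._proof_1 EtMV.hext
attribute [local instance 200000] EtMV.hextAb

variable {X : Scheme.{u}} [IsIntegral X] [IsLocallyNoetherian X]

omit [IsIntegral X] in
instance isLocallyNoetherian_left (W : X.Etale) : IsLocallyNoetherian W.left :=
  haveI : Etale W.hom := W.prop
  @LocallyOfFiniteType.isLocallyNoetherian W.left X W.hom inferInstance inferInstance

omit [IsIntegral X] [IsLocallyNoetherian X] in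
theorem isNormal_left (hfact : EtFact X) (W : X.Etale) : Pi1.IsNormalScheme W.left := fun v => by
  obtain ⟨h1, h2⟩ := hfact W v
  haveI := h1
  haveI := h2
  exact ⟨h1, inferInstance⟩

omit [IsIntegral X] in
/-- integral affine neighbourhoods -/
theorem exists_integral_sub (hfact : EtFact X) (W : X.Etale) (v : W.left) (N : W.left.Opens) (hv : v ∈ N) :
    ∃ B : W.left.Opens, v ∈ B ∧ B ≤ N ∧ IsAffineOpen B ∧ IsIntegral (sub W B).left := by
  haveI := isLocallyNoetherian_left W
  haveI := (hfact W v).1
  obtain ⟨V, hvV, hVN, hV, -⟩ := SectionExt.exists_integral_nhd v N hv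
  obtain ⟨A, hA, hvA, hAV⟩ := exists_isAffineOpen_mem_and_subset (X := W.left) (x := v) (U := V) hvV
  haveI := hV
  haveI : Nonempty (A : Scheme.{u}) := ⟨⟨v, hvA⟩⟩
  exact ⟨A, hvA, le_trans hAV hVN, hA,
    show IsIntegral (A : Scheme.{u}) from isIntegral_of_isOpenImmersion (W.left.homOfLE hAV)⟩

/-- **units inject into rational functions** -/
theorem mono_gmUnit_generic (hfact : EtFact X) : Mono (gmUnit (genericPoint X)) := by
  refine Preadditive.mono_of_isZero_kernel _ (isZero_of_zeroAt _ fun x => zeroAt_kernel_of_local _ fun V s v _ hs => ?_)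
  obtain ⟨B, hvB, -, -, hB⟩ := exists_integral_sub hfact V v ⊤ trivial
  haveI := hB
  refine (EtSect.mem_iff _ s v).2 ⟨sub V B, subι V B, ⟨⟨v, hvB⟩, rfl⟩, ?_⟩
  let W := sub V B
  let s' := res (EtCoh.Gm X) (subι V B) s
  let a := gmVal s'
  have h0 : (gmUnit (genericPoint X)).hom.app (op W) s' = 0 :=
    (EtFLC.app_res _ _ s).trans ((congrArg _ hs).trans (map_zero _))
  have hne : W.left.presheaf.germ ⊤ (genericPoint W.left) trivial a ≠ 0 :=
    ((isUnit_gmVal s').map (W.left.presheaf.germ ⊤ (genericPoint W.left) trivial).hom).ne_zero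
  have h1 : Rat (0 : EtCoh.sect (KGm X) W) (Units.mk0 _ hne) := by
    refine rat_of_regular a ?_ rfl
    rw [← h0]
    rfl
  have h2 : W.left.presheaf.germ ⊤ (genericPoint W.left) trivial a = 1 :=
    congrArg Units.val (rat_unique h1 rat_zero)
  refine gmVal_injective ?_
  rw [gmVal_zero]
  exact germ_injective_of_isIntegral W.left (genericPoint W.left) (U := ⊤) trivial (h2.trans (map_one _).symm)

/-- sections with trivial class come from units -/
theorem exists_of_cls_eq_zero (hfact : EtFact X) {W : X.Etale} (t : EtCoh.sect (KGm X) W) (h : cls t = 0) :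
    ∃ s, (gmUnit (genericPoint X)).hom.app (op W) s = t := by
  haveI := mono_gmUnit_generic hfact
  have hS : (ShortComplex.mk (gmUnit (genericPoint X)) (cokernel.π _) (cokernel.condition _)).ShortExact :=
    { exact := ShortComplex.exact_of_g_is_cokernel _ (cokernelIsCokernel _) }
  have hw : (EtMV.σ (o := W)).symm t ≫ cokernel.π (gmUnit (genericPoint X)) = 0 := by
    refine EtMV.σ.injective ?_
    rw [EtMV.σ_comp, Equiv.apply_symm_apply]
    exact h.trans ((AddMonoidHom.mk' (EtMV.σ (o := W) (G := Div X)) EtMV.σ_add).map_zero).symm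
  refine ⟨EtMV.σ (hS.fIsKernel.lift (KernelFork.ofι _ hw) ), ?_⟩
  rw [← EtMV.σ_comp]
  exact (congrArg EtMV.σ (Fork.IsLimit.lift_ι hS.fIsKernel)).trans (Equiv.apply_symm_apply _ _)

variable {W : X.Etale} [IsIntegral W.left]

theorem cls_gmUnit (s : EtCoh.sect (EtCoh.Gm X) W) : cls ((gmUnit (genericPoint X)).hom.app (op W) s) = 0 :=
  congrArg (fun m : EtCoh.Gm X ⟶ Div X => m.hom.app (op W) s) (cokernel.condition (gmUnit (genericPoint X)))

/-- **a class vanishes at a point iff the function is a unit there** -/
theorem notMem_supp_iff (hfact : EtFact X) {t : EtCoh.sect (KGm X) W} {f : CDiv.KUnits W.left} (hf : Rat t f)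
    (p : W.left) : p ∉ EtShriek.sectSupp (Div X) W (cls t) ↔ f ∈ CDiv.stalkUnits W.left p := by
  constructor
  · intro hp
    let B : W.left.Opens :=
      ⟨(EtShriek.sectSupp (Div X) W (cls t))ᶜ, (EtSect.isClosed_sectSupp (Div X) (cls t)).isOpen_compl⟩
    haveI : Nonempty B := ⟨⟨p, hp⟩⟩
    have h0 : cls (res (KGm X) (subι W B) t) = 0 := by
      rw [← res_cls]
      refine (EtSect.map_eq_zero_iff (Div X) (cls t) (subι W B)).2 ?_
      rintro _ ⟨a, rfl⟩
      exact (a : B).2
    obtain ⟨s, hs⟩ := exists_of_cls_eq_zero hfact _ h0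
    let c : Γ(W.left, B) := B.topIso.hom (gmVal s)
    have hc := (res_eq_gmUnit_iff t hf B c s (B.topIso.hom_inv_id_apply (gmVal s)).symm).1 hs
    have hcu : IsUnit (W.left.presheaf.germ B p hp c) :=
      (((isUnit_gmVal s).map B.topIso.hom.hom).map (W.left.presheaf.germ B p hp).hom)
    exact ⟨hcu.unit, Units.ext ((W.left.algebraMap_germ_eq_germToFunctionField hp c).trans hc)⟩
  · rintro ⟨w, rfl⟩
    obtain ⟨U, hpU, a, ha⟩ := TopCat.Presheaf.exists_germ_eq W.left.presheaf (x := p) (w : W.left.presheaf.stalk p)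
    let B : W.left.Opens := W.left.basicOpen a
    have hpB : p ∈ B := (W.left.mem_basicOpen a p hpU).2 (ha ▸ w.isUnit)
    haveI : Nonempty B := ⟨⟨p, hpB⟩⟩
    let c : Γ(W.left, B) := W.left.presheaf.map (homOfLE (W.left.basicOpen_le a)).op a
    obtain ⟨s, hs⟩ := exists_gmVal (X := X) (W := sub W B)
      ((RingedSpace.isUnit_res_basicOpen W.left.toLocallyRingedSpace.toRingedSpace a).map B.topIso.inv.hom)
    refine (EtSect.mem_iff _ _ p).2 ⟨sub W B, subι W B, ⟨⟨p, hpB⟩, rfl⟩, ?_⟩
    show res (Div X) (subι W B) (cls t) = 0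
    rw [res_cls, ← (res_eq_gmUnit_iff t hf B c s hs).2 ?_]
    · exact congrArg (fun m : EtCoh.Gm X ⟶ Div X => m.hom.app (op (sub W B)) s)
        (cokernel.condition (gmUnit (genericPoint X)))
    · refine (W.left.algebraMap_germ_eq_germToFunctionField hpB c).symm.trans ?_
      show algebraMap _ _ _ = algebraMap _ _ (w : W.left.presheaf.stalk p)
      exact congrArg _ ((TopCat.Presheaf.germ_res_apply _ _ p hpB a).trans ha)

/-- classes vanish where their orders at codimension one vanish -/
theorem notMem_supp_of_ord (hfact : EtFact X) {t : EtCoh.sect (KGm X) W} {f : CDiv.KUnits W.left} (hf : Rat t f)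
    (y : W.left) (h : ∀ x : W.left, x ⤳ y → Order.coheight x = 1 → Scheme.ord (f : W.left.functionField) x = 0) :
    y ∉ EtShriek.sectSupp (Div X) W (cls t) := by
  haveI := isLocallyNoetherian_left W
  exact (notMem_supp_iff hfact hf y).2 (CDivNormal.mem_stalkUnits_of_codim_one (isNormal_left hfact W) f y h)

theorem notMem_supp_iff_ord (hfact : EtFact X) {t : EtCoh.sect (KGm X) W} {f : CDiv.KUnits W.left} (hf : Rat t f)
    (x : W.left) (hx : Order.coheight x = 1) :
    x ∉ EtShriek.sectSupp (Div X) W (cls t) ↔ Scheme.ord (f : W.left.functionField) x = 0 := by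
  haveI := isLocallyNoetherian_left W
  rw [CDivNormal.ord_eq_zero_iff (isNormal_left hfact W) f x hx]
  exact notMem_supp_iff hfact hf x

/-- the generic point is outside the support -/
theorem genericPoint_notMem_supp (hfact : EtFact X) (t : EtCoh.sect (KGm X) W) :
    genericPoint W.left ∉ EtShriek.sectSupp (Div X) W (cls t) := by
  obtain ⟨f, hf⟩ := rat_exists t
  refine notMem_supp_of_ord hfact hf _ fun x hx h1 => ?_
  exfalso
  have e : x = genericPoint W.left := (hx.antisymm ((genericPoint_spec W.left).specializes (Set.mem_univ x))).eq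
  have h0 : Order.coheight (genericPoint W.left) = 0 := Order.coheight_eq_zero.2 fun y _ =>
    (genericPoint_spec W.left).specializes (Set.mem_univ y)
  rw [e, h0] at h1
  exact zero_ne_one h1

/-- a class meets only finitely many points of codimension one -/
theorem finite_supp_codim_one (hfact : EtFact X) [CompactSpace W.left] (t : EtCoh.sect (KGm X) W) :
    {x : W.left | x ∈ EtShriek.sectSupp (Div X) W (cls t) ∧ Order.coheight x = 1}.Finite := by
  haveI := isLocallyNoetherian_left W
  haveI : IsNoetherian W.left := {}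
  obtain ⟨S, hS, hSc, hSi, hSU⟩ := NoetherianSpace.exists_finite_set_isClosed_irreducible
    (EtSect.isClosed_sectSupp (Div X) (cls t))
  haveI := hS.to_subtype
  refine (Set.finite_range fun T : S => (hSi T T.2).genericPoint).subset ?_
  rintro x ⟨hx, hx1⟩
  rw [hSU] at hx
  obtain ⟨T, hT, hxT⟩ := hx
  refine ⟨⟨T, hT⟩, ?_⟩
  have hg := (hSi T hT).isGenericPoint_genericPoint (hSc T hT)
  rcases DivOrd.eq_or_eq_genericPoint hx1 (hg.specializes hxT) with e | e
  · exact e
  · exact absurd (hSU ▸ ⟨T, hT, e ▸ hg.mem⟩) (genericPoint_notMem_supp hfact t)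

end Groth.Agent.EtDivSeq

namespace Groth.Agent.EtDivSeq

open IsLocalRing in
/-- etale maps preserve the dimension of local rings and uniformizers -/
theorem etale_stalk {V Y : Scheme.{u}} [IsLocallyNoetherian Y] (φ : V ⟶ Y) [Etale φ] (p : V) :
    ringKrullDim (V.presheaf.stalk p) = ringKrullDim (Y.presheaf.stalk (φ p)) ∧
      (maximalIdeal (Y.presheaf.stalk (φ p))).map (φ.stalkMap p).hom = maximalIdeal (V.presheaf.stalk p) := by
  haveI : IsLocallyNoetherian V := LocallyOfFiniteType.isLocallyNoetherian φ
  let R := Y.presheaf.stalk (φ p)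
  let S := V.presheaf.stalk p
  letI : Algebra R S := (φ.stalkMap p).hom.toAlgebra
  haveI : IsLocalHom (algebraMap R S) := inferInstanceAs (IsLocalHom (φ.stalkMap p).hom)
  haveI : Module.Flat R S := Flat.stalkMap φ p
  haveI : Module.FaithfullyFlat R S := Module.FaithfullyFlat.of_flat_of_isLocalHom
  haveI : Algebra.FormallyUnramified R S := RingHom.formallyUnramified_algebraMap.1 (FormallyUnramified.stalkMap φ p)
  haveI : Algebra.EssFiniteType R S := by
    rw [← RingHom.essFiniteType_algebraMap, RingHom.algebraMap_toAlgebra]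
    exact LocallyOfFiniteType.stalkMap φ p
  have hm : (maximalIdeal R).map (algebraMap R S) = maximalIdeal S := Algebra.FormallyUnramified.map_maximalIdeal
  exact ⟨Groth.Agent.Hensel.ringKrullDim_eq_of_map_maximalIdeal hm, hm⟩

theorem coheight_etale {V Y : Scheme.{u}} [IsLocallyNoetherian Y] (φ : V ⟶ Y) [Etale φ] (p : V) :
    Order.coheight p = Order.coheight (φ p) := by
  have h := (etale_stalk φ p).1
  rw [ringKrullDim_stalk_eq_coheight, ringKrullDim_stalk_eq_coheight] at h
  exact WithBot.coe_injective h

variable {X : Scheme.{u}} [IsIntegral X] {W : X.Etale} [IsIntegral W.left]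

theorem rat_regular_eq {t : EtCoh.sect (KGm X) W} {f : CDiv.KUnits W.left} (hf : Rat t f) (b : Γ(W.left, ⊤))
    (ht : kval t = (fstK W).appTop b) :
    (f : W.left.functionField) = W.left.presheaf.germ ⊤ (genericPoint W.left) trivial b := by
  obtain ⟨z⟩ := nonempty_pb W
  have h : fstK W z ⤳ genericPoint W.left := (fst_eq z).symm ▸ specializes_rfl
  have h' : genericPoint W.left ⤳ fstK W z := (fst_eq z).symm ▸ specializes_rfl
  have e : (fstK W).stalkMap z (W.left.presheaf.stalkSpecializes h (f : W.left.functionField)) =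
      (fstK W).stalkMap z (W.left.presheaf.germ ⊤ (fstK W z) trivial b) := by
    rw [← hf z h, ht]
    exact (Scheme.Hom.germ_stalkMap_apply (fstK W) ⊤ z trivial b).symm
  have e' := congrArg (W.left.presheaf.stalkSpecializes h') ((bijective_stalkMap_fst W z).1 e)
  rw [spec_cancel h h'] at e'
  exact e'.trans (TopCat.Presheaf.germ_stalkSpecializes_apply W.left.presheaf (U := ⊤) (hy := trivial) h' b)

end Groth.Agent.EtDivSeq
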